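import Mathlib
import Cfsg.Prelude.Def_DegreeGraph
import Cfsg.Agent.Helper25.CharKer

set_option autoImplicit false

/-!
# Character degree sets: transport along homomorphisms

* `charDegrees_subset_of_surj`, `charDegrees_congr`: degrees under surjections / isomorphisms;
* `mem_charDegrees_of_one`: a character with `χ 1 = d` gives `d ∈ charDegrees`;
* `exists_of_card_pos`.
-/

namespace Cfsg.Agent.Helper14.DG

open Cfsg

theorem charDegrees_subset_of_surj {G H : Type*} [Group G] [Group H] (f : G →* H)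
    (hf : Function.Surjective f) : charDegrees H ⊆ charDegrees G := by
  rintro d ⟨χ, rfl⟩
  exact ⟨Cfsg.Agent.Helper25.irrComp χ f hf, Cfsg.Agent.Helper25.charDegree_irrComp χ f hf⟩

theorem charDegrees_congr {G H : Type*} [Group G] [Group H] (e : G ≃* H) :
    charDegrees G = charDegrees H := by
  apply Set.Subset.antisymm
  · exact charDegrees_subset_of_surj e.symm.toMonoidHom e.symm.surjective
  · exact charDegrees_subset_of_surj e.toMonoidHom e.surjective

theorem mem_charDegrees_of_one {G : Type*} [Group G] (χ : IrrCharacter G) (d : ℕ)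
    (h : (χ : G → ℂ) 1 = (d : ℂ)) : d ∈ charDegrees G := by
  refine ⟨χ, ?_⟩
  rw [Cfsg.Agent.Helper25.irr_one_eq_degree] at h
  exact_mod_cast h

theorem exists_of_card_pos {α : Type*} (p : α → Prop) (h : 0 < Nat.card {a // p a}) :
    ∃ a, p a := by
  obtain ⟨⟨a, ha⟩⟩ := (Nat.card_pos_iff.mp h).1
  exact ⟨a, ha⟩

theorem mem_degreePrimes {G : Type*} [Group G] (p : ℕ) :
    p ∈ degreePrimes G ↔ p.Prime ∧ ∃ d ∈ charDegrees G, p ∣ d := Iff.rfl

theorem degreeGraph_adj {G : Type*} [Group G] (p q : ℕ) :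
    (degreeGraph G).Adj p q ↔ p ≠ q ∧ p.Prime ∧ q.Prime ∧ ∃ d ∈ charDegrees G, p * q ∣ d :=
  Iff.rfl

end Cfsg.Agent.Helper14.DG
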