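import Mathlib

set_option autoImplicit false

/-!
# Conjugacy classes of `GL₂(F)`

A non-scalar element of `GL₂(F)` is conjugate to the companion matrix of its characteristic
polynomial (`conj_comp`); hence the classes are parametrised by `Fˣ ⊕ F × Fˣ`
(`clsRep_bijective`) and there are `q² - 1` of them (`card_conjClasses`).
-/

namespace Cfsg.Agent.Helper14.GL2

open scoped MatrixGroups

variable {F : Type*} [Field F]

/-- an explicit element of `GL₂(F)` -/
noncomputable def mk2 (a b c d : F) (h : a * d - b * c ≠ 0) : GL (Fin 2) F :=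
  Matrix.GeneralLinearGroup.mkOfDetNeZero !![a, b; c, d] (by rw [Matrix.det_fin_two_of]; exact h)

theorem mk2_coe (a b c d : F) (h : a * d - b * c ≠ 0) :
    ((mk2 a b c d h : GL (Fin 2) F) : Matrix (Fin 2) (Fin 2) F) = !![a, b; c, d] := rfl

theorem det_ne (g : GL (Fin 2) F) :
    (g : Matrix (Fin 2) (Fin 2) F) 0 0 * (g : Matrix (Fin 2) (Fin 2) F) 1 1 -
      (g : Matrix (Fin 2) (Fin 2) F) 0 1 * (g : Matrix (Fin 2) (Fin 2) F) 1 0 ≠ 0 := by
  have := ((Matrix.isUnit_iff_isUnit_det _).mp g.isUnit).ne_zero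
  rwa [Matrix.det_fin_two] at this

theorem eq_mk2 (g : GL (Fin 2) F) :
    g = mk2 ((g : Matrix (Fin 2) (Fin 2) F) 0 0) ((g : Matrix (Fin 2) (Fin 2) F) 0 1)
      ((g : Matrix (Fin 2) (Fin 2) F) 1 0) ((g : Matrix (Fin 2) (Fin 2) F) 1 1) (det_ne g) := by
  apply Units.ext
  rw [mk2_coe]
  exact Matrix.eta_fin_two _

/-- the companion matrix with trace `t` and determinant `d` -/
noncomputable def comp (t d : F) (hd : d ≠ 0) : GL (Fin 2) F :=
  mk2 0 (-d) 1 t (by simpa using hd)

theorem comp_coe (t d : F) (hd : d ≠ 0) :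
    ((comp t d hd : GL (Fin 2) F) : Matrix (Fin 2) (Fin 2) F) = !![0, -d; 1, t] := rfl

theorem isConj_of_mul_eq (g h P : GL (Fin 2) F)
    (hP : (g : Matrix (Fin 2) (Fin 2) F) * (P : Matrix (Fin 2) (Fin 2) F) =
      (P : Matrix (Fin 2) (Fin 2) F) * (h : Matrix (Fin 2) (Fin 2) F)) : IsConj g h := by
  have e : g * P = P * h := Units.ext hP
  rw [isConj_iff]
  refine ⟨P⁻¹, ?_⟩
  rw [inv_inv, mul_assoc, e, ← mul_assoc, inv_mul_cancel, one_mul]

/-- a non-scalar element is conjugate to the companion matrix of its characteristic polynomial -/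
theorem conj_comp' (g : GL (Fin 2) F) (a b c d : F)
    (hg : (g : Matrix (Fin 2) (Fin 2) F) = !![a, b; c, d])
    (hns : ¬ (b = 0 ∧ c = 0 ∧ a = d)) (hdet : a * d - b * c ≠ 0) :
    IsConj g (comp (a + d) (a * d - b * c) hdet) := by
  by_cases hc0 : c = 0
  · by_cases hb0 : b = 0
    · have had : a ≠ d := fun h => hns ⟨hb0, hc0, h⟩
      apply isConj_of_mul_eq g _ (mk2 1 a 1 d (by
        intro h
        apply had
        linear_combination -h))
      rw [hg, mk2_coe, comp_coe, hc0, hb0]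
      ext i j
      fin_cases i <;> fin_cases j <;> simp [Matrix.mul_apply, Fin.sum_univ_two] <;> ring
    · apply isConj_of_mul_eq g _ (mk2 0 b 1 d (by simpa using hb0))
      rw [hg, mk2_coe, comp_coe, hc0]
      ext i j
      fin_cases i <;> fin_cases j <;> simp [Matrix.mul_apply, Fin.sum_univ_two] <;> ring
  · apply isConj_of_mul_eq g _ (mk2 1 a 0 c (by simpa using hc0))
    rw [hg, mk2_coe, comp_coe]
    ext i j
    fin_cases i <;> fin_cases j <;> simp [Matrix.mul_apply, Fin.sum_univ_two] <;> ring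

theorem conj_comp (g : GL (Fin 2) F)
    (hns : ¬ ((g : Matrix (Fin 2) (Fin 2) F) 0 1 = 0 ∧ (g : Matrix (Fin 2) (Fin 2) F) 1 0 = 0 ∧
      (g : Matrix (Fin 2) (Fin 2) F) 0 0 = (g : Matrix (Fin 2) (Fin 2) F) 1 1)) :
    IsConj g (comp ((g : Matrix (Fin 2) (Fin 2) F) 0 0 + (g : Matrix (Fin 2) (Fin 2) F) 1 1)
      ((g : Matrix (Fin 2) (Fin 2) F) 0 0 * (g : Matrix (Fin 2) (Fin 2) F) 1 1 -
        (g : Matrix (Fin 2) (Fin 2) F) 0 1 * (g : Matrix (Fin 2) (Fin 2) F) 1 0) (det_ne g)) :=
  conj_comp' g _ _ _ _ (Matrix.eta_fin_two _) hns (det_ne g)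

/-- scalar matrices -/
noncomputable def scal (a : Fˣ) : GL (Fin 2) F :=
  mk2 (a : F) 0 0 (a : F) (by simp)

theorem scal_coe (a : Fˣ) :
    ((scal a : GL (Fin 2) F) : Matrix (Fin 2) (Fin 2) F) = !![(a : F), 0; 0, (a : F)] := rfl

theorem scal_comm (a : Fˣ) (c : GL (Fin 2) F) : c * scal a = scal a * c := by
  apply Units.ext
  rw [Units.val_mul, Units.val_mul, scal_coe, Matrix.eta_fin_two (c : Matrix (Fin 2) (Fin 2) F)]
  ext i j
  fin_cases i <;> fin_cases j <;> simp [Matrix.mul_apply, Fin.sum_univ_two, mul_comm]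

theorem scal_conj (a : Fˣ) (c : GL (Fin 2) F) : c * scal a * c⁻¹ = scal a := by
  rw [scal_comm, mul_assoc, mul_inv_cancel, mul_one]

/-- representatives of the conjugacy classes -/
noncomputable def clsRep : Fˣ ⊕ (F × Fˣ) → GL (Fin 2) F
  | Sum.inl a => scal a
  | Sum.inr (t, d) => comp t (d : F) d.ne_zero

theorem trace_conj (c g h : GL (Fin 2) F) (e : c * g * c⁻¹ = h) :
    (g : Matrix (Fin 2) (Fin 2) F).trace = (h : Matrix (Fin 2) (Fin 2) F).trace := by
  rw [← e, Units.val_mul, Units.val_mul, Matrix.trace_units_conj]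

theorem det_conj (c g h : GL (Fin 2) F) (e : c * g * c⁻¹ = h) :
    (g : Matrix (Fin 2) (Fin 2) F).det = (h : Matrix (Fin 2) (Fin 2) F).det := by
  rw [← e, Units.val_mul, Units.val_mul, Matrix.det_units_conj]

theorem clsRep_bijective :
    Function.Bijective (fun x : Fˣ ⊕ (F × Fˣ) => ConjClasses.mk (clsRep x)) := by
  constructor
  · intro x y hxy
    have hxy' : IsConj (clsRep x) (clsRep y) := ConjClasses.mk_eq_mk_iff_isConj.mp hxy
    obtain ⟨c, hc⟩ := isConj_iff.mp hxy'
    rcases x with a | ⟨t, d⟩ <;> rcases y with a' | ⟨t', d'⟩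
    · simp only [clsRep] at hc
      rw [scal_conj] at hc
      have := congrFun (congrFun (congrArg (fun x : GL (Fin 2) F =>
        (x : Matrix (Fin 2) (Fin 2) F)) hc) 0) 0
      simp only [scal_coe] at this
      congr 1
      exact Units.ext (by simpa using this)
    · simp only [clsRep] at hc
      rw [scal_conj] at hc
      have := congrFun (congrFun (congrArg (fun x : GL (Fin 2) F =>
        (x : Matrix (Fin 2) (Fin 2) F)) hc) 1) 0
      simp [scal_coe, comp_coe] at this
    · simp only [clsRep] at hc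
      have hc' : c⁻¹ * scal a' * c⁻¹⁻¹ = comp t (d : F) d.ne_zero := by
        rw [← hc]
        group
      rw [scal_conj] at hc'
      have := congrFun (congrFun (congrArg (fun x : GL (Fin 2) F =>
        (x : Matrix (Fin 2) (Fin 2) F)) hc') 1) 0
      simp [scal_coe, comp_coe] at this
    · simp only [clsRep] at hc
      have h1 := trace_conj c _ _ hc
      have h2 := det_conj c _ _ hc
      rw [comp_coe, comp_coe, Matrix.trace_fin_two_of, Matrix.trace_fin_two_of] at h1
      rw [comp_coe, comp_coe, Matrix.det_fin_two_of, Matrix.det_fin_two_of] at h2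
      have ht : t = t' := by linear_combination h1
      have hd : (d : F) = d' := by linear_combination h2
      rw [ht, Units.ext hd]
  · intro C
    obtain ⟨g, rfl⟩ := ConjClasses.mk_surjective C
    by_cases hs : (g : Matrix (Fin 2) (Fin 2) F) 0 1 = 0 ∧ (g : Matrix (Fin 2) (Fin 2) F) 1 0 = 0 ∧
        (g : Matrix (Fin 2) (Fin 2) F) 0 0 = (g : Matrix (Fin 2) (Fin 2) F) 1 1
    · have hdet := det_ne g
      rw [hs.1, zero_mul, sub_zero] at hdet
      have h00 : (g : Matrix (Fin 2) (Fin 2) F) 0 0 ≠ 0 := left_ne_zero_of_mul hdet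
      refine ⟨Sum.inl (Units.mk0 _ h00), ?_⟩
      show ConjClasses.mk (scal (Units.mk0 _ h00)) = ConjClasses.mk g
      congr 1
      apply Units.ext
      rw [scal_coe, Units.val_mk0]
      conv_rhs => rw [Matrix.eta_fin_two (g : Matrix (Fin 2) (Fin 2) F), hs.1, hs.2.1, ← hs.2.2]
    · refine ⟨Sum.inr ((g : Matrix (Fin 2) (Fin 2) F) 0 0 + (g : Matrix (Fin 2) (Fin 2) F) 1 1,
        Units.mk0 _ (det_ne g)), ?_⟩
      show ConjClasses.mk (comp _ _ (Units.mk0 _ (det_ne g)).ne_zero) = ConjClasses.mk g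
      rw [ConjClasses.mk_eq_mk_iff_isConj]
      exact (conj_comp g hs).symm

theorem card_conjClasses [Fintype F] :
    Nat.card (ConjClasses (GL (Fin 2) F)) = Fintype.card F ^ 2 - 1 := by
  rw [← Nat.card_eq_of_bijective _ (clsRep_bijective (F := F)), Nat.card_sum, Nat.card_prod,
    Nat.card_units, Nat.card_eq_fintype_card]
  obtain ⟨k, hk⟩ : ∃ k, Fintype.card F = k + 1 := ⟨Fintype.card F - 1, by
    have := Fintype.card_pos (α := F); omega⟩
  rw [hk]
  simp only [Nat.add_sub_cancel]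
  have : (k + 1) ^ 2 = k + (k + 1) * k + 1 := by ring
  omega

end Cfsg.Agent.Helper14.GL2
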