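import Mathlib
import Cfsg.Agent.Helper14.BorelInd
import Cfsg.Agent.Helper14.GL2Classes

set_option autoImplicit false
set_option linter.unusedSectionVars false

/-!
# Values of the principal series characters of `GL₂(F)`
-/

namespace Cfsg.Agent.Helper14.GL2

open Cfsg
open scoped ComplexConjugate MatrixGroups

variable {F : Type*} [Field F] [Fintype F] [DecidableEq F]

/-- parametrisation of the Borel subgroup -/
noncomputable def bEquiv : ↥(upperTriangularGL 2 F) ≃ Fˣ × Fˣ × F where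
  toFun b :=
    (Units.mk0 (((b : GL (Fin 2) F) : Matrix (Fin 2) (Fin 2) F) 0 0) (by
        have h := det_ne (b : GL (Fin 2) F)
        rw [(mem_upper_iff _).mp b.2, mul_zero, sub_zero] at h
        exact left_ne_zero_of_mul h),
      Units.mk0 (((b : GL (Fin 2) F) : Matrix (Fin 2) (Fin 2) F) 1 1) (by
        have h := det_ne (b : GL (Fin 2) F)
        rw [(mem_upper_iff _).mp b.2, mul_zero, sub_zero] at h
        exact right_ne_zero_of_mul h),
      ((b : GL (Fin 2) F) : Matrix (Fin 2) (Fin 2) F) 0 1)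
  invFun p := ⟨mk2 (p.1 : F) p.2.2 0 (p.2.1 : F) (by simp), by
    rw [mem_upper_iff, mk2_coe]; rfl⟩
  left_inv b := by
    apply Subtype.ext
    apply Units.ext
    rw [mk2_coe]
    conv_rhs => rw [Matrix.eta_fin_two ((b : GL (Fin 2) F) : Matrix (Fin 2) (Fin 2) F),
      (mem_upper_iff _).mp b.2]
    rfl
  right_inv p := by
    obtain ⟨a, d, x⟩ := p
    refine Prod.ext (Units.ext ?_) (Prod.ext (Units.ext ?_) ?_) <;> rfl

theorem bEquiv_symm_coe (a d : Fˣ) (x : F) :
    (((bEquiv.symm (a, d, x) : ↥(upperTriangularGL 2 F)) : GL (Fin 2) F) :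
      Matrix (Fin 2) (Fin 2) F) = !![(a : F), x; 0, (d : F)] := rfl

theorem card_B : Nat.card ↥(upperTriangularGL 2 F) =
    (Fintype.card F - 1) * ((Fintype.card F - 1) * Fintype.card F) := by
  rw [Nat.card_congr (bEquiv (F := F)), Nat.card_prod, Nat.card_prod, Nat.card_units,
    Nat.card_eq_fintype_card]

theorem card_G : Nat.card (GL (Fin 2) F) =
    (Fintype.card F ^ 2 - 1) * (Fintype.card F ^ 2 - Fintype.card F) := by
  rw [Matrix.card_GL_field, Fin.prod_univ_two]
  simp

theorem one_lt_q : 1 < Fintype.card F := Fintype.one_lt_card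

theorem card_B_complex : (Nat.card ↥(upperTriangularGL 2 F) : ℂ) =
    ((Fintype.card F : ℂ) - 1) ^ 2 * (Fintype.card F : ℂ) := by
  rw [card_B]
  have h := one_lt_q (F := F)
  push_cast [Nat.cast_sub h.le]
  ring

theorem card_G_complex : (Nat.card (GL (Fin 2) F) : ℂ) =
    ((Fintype.card F : ℂ) - 1) ^ 2 * (Fintype.card F : ℂ) * ((Fintype.card F : ℂ) + 1) := by
  rw [card_G]
  have h := one_lt_q (F := F)
  have h1 : 1 ≤ Fintype.card F ^ 2 := Nat.one_le_pow _ _ (by omega)
  have h2 : Fintype.card F ≤ Fintype.card F ^ 2 := by nlinarith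
  push_cast [Nat.cast_sub h1, Nat.cast_sub h2]
  ring

/-- the principal series class function `Ind_B^G (α ⊗ β)` -/
noncomputable def ps (α β : MulChar F ℂ) : GL (Fin 2) F → ℂ :=
  indFun (upperTriangularGL 2 F) (fun b => thetaHom α β b)

open Classical in
theorem sum_mem_B (v : ℂ) :
    ∑ x : GL (Fin 2) F, (if x ∈ upperTriangularGL 2 F then v else 0) =
      (Nat.card ↥(upperTriangularGL 2 F) : ℂ) * v := by
  classical
  rw [← Finset.sum_filter, Finset.sum_const, nsmul_eq_mul]
  congr 2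
  rw [Nat.card_eq_fintype_card, Fintype.card_subtype]

theorem ext_conj_mem (α β : MulChar F ℂ) (g : GL (Fin 2) F) (hg : g ∈ upperTriangularGL 2 F)
    (x : GL (Fin 2) F) (hx : x ∈ upperTriangularGL 2 F) :
    extendByZero (upperTriangularGL 2 F) (fun b => thetaHom α β b) (x⁻¹ * g * x) =
      thetaHom α β ⟨g, hg⟩ := by
  have hm : x⁻¹ * g * x ∈ upperTriangularGL 2 F := mul_mem (mul_mem (inv_mem hx) hg) hx
  rw [Helper2.extendByZero_of_mem _ _ hm]
  have e : (⟨x⁻¹ * g * x, hm⟩ : ↥(upperTriangularGL 2 F)) =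
      (⟨x, hx⟩ : ↥(upperTriangularGL 2 F))⁻¹ * ⟨g, hg⟩ * ⟨x, hx⟩ := rfl
  show thetaHom α β ⟨x⁻¹ * g * x, hm⟩ = _
  rw [e, map_mul, map_mul, mul_comm (thetaHom α β _) (thetaHom α β ⟨g, hg⟩), mul_assoc, ← map_mul,
    inv_mul_cancel, map_one, mul_one]

/-- value on a non-semisimple upper triangular element -/
theorem ps_jordan (α β : MulChar F ℂ) (g : GL (Fin 2) F)
    (h10 : (g : Matrix (Fin 2) (Fin 2) F) 1 0 = 0)
    (heq : (g : Matrix (Fin 2) (Fin 2) F) 0 0 = (g : Matrix (Fin 2) (Fin 2) F) 1 1)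
    (h01 : (g : Matrix (Fin 2) (Fin 2) F) 0 1 ≠ 0) :
    ps α β g = α ((g : Matrix (Fin 2) (Fin 2) F) 0 0) * β ((g : Matrix (Fin 2) (Fin 2) F) 1 1) := by
  classical
  have hgB : g ∈ upperTriangularGL 2 F := (mem_upper_iff g).mpr h10
  have key : ∀ x : GL (Fin 2) F,
      extendByZero (upperTriangularGL 2 F) (fun b => thetaHom α β b) (x⁻¹ * g * x) =
        if x ∈ upperTriangularGL 2 F then thetaHom α β ⟨g, hgB⟩ else 0 := by
    intro x
    split_ifs with hx
    · exact ext_conj_mem α β g hgB x hx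
    · apply Helper2.extendByZero_of_not_mem
      intro hm
      have hs : (x : Matrix (Fin 2) (Fin 2) F) 1 0 ≠ 0 := fun h => hx ((mem_upper_iff x).mpr h)
      obtain ⟨_, _, h3⟩ := (conj_facts _ _ _ (conj_mat x g) hs h10 (gl_det_ne_zero x)
        (gl_det_ne_zero g)).1 ((mem_upper_iff _).mp hm)
      rw [heq, sub_self, zero_mul] at h3
      exact hs ((mul_eq_zero.mp h3).resolve_left h01)
  show indFun _ _ g = _
  rw [Helper2.indFun_apply, Finset.sum_congr rfl (fun x _ => key x), sum_mem_B, ← mul_assoc,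
    inv_mul_cancel₀ (Helper2.natCard_ne_zero_complex _), one_mul, thetaHom_apply]

/-- value at the identity -/
theorem ps_one (α β : MulChar F ℂ) : ps α β 1 = (Fintype.card F : ℂ) + 1 := by
  show indFun _ _ 1 = _
  rw [ind_one, ← Nat.card_eq_fintype_card, card_G_complex, card_B_complex]
  have h1 : ((Fintype.card F : ℂ) - 1) ≠ 0 := by
    have h := one_lt_q (F := F)
    intro h0
    have : (Fintype.card F : ℂ) = 1 := by linear_combination h0
    have : Fintype.card F = 1 := by exact_mod_cast this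
    omega
  have h2 : (Fintype.card F : ℂ) ≠ 0 := by
    have h := one_lt_q (F := F)
    exact_mod_cast (by omega : Fintype.card F ≠ 0)
  field_simp

/-- the Weyl element -/
noncomputable def wEl : GL (Fin 2) F := mk2 0 1 1 0 (by simp)

theorem wEl_mul_mem (x : GL (Fin 2) F) :
    wEl * x ∈ upperTriangularGL 2 F ↔ (x : Matrix (Fin 2) (Fin 2) F) 0 0 = 0 := by
  rw [mem_upper_iff, Units.val_mul]
  show ((!![0, 1; 1, 0] : Matrix (Fin 2) (Fin 2) F) * (x : Matrix (Fin 2) (Fin 2) F)) 1 0 = 0 ↔ _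
  simp [Matrix.mul_apply, Fin.sum_univ_two]

/-- value on a diagonal element with distinct eigenvalues -/
theorem ps_diag (α β : MulChar F ℂ) (g : GL (Fin 2) F)
    (h01 : (g : Matrix (Fin 2) (Fin 2) F) 0 1 = 0)
    (h10 : (g : Matrix (Fin 2) (Fin 2) F) 1 0 = 0)
    (hne : (g : Matrix (Fin 2) (Fin 2) F) 0 0 ≠ (g : Matrix (Fin 2) (Fin 2) F) 1 1) :
    ps α β g = α ((g : Matrix (Fin 2) (Fin 2) F) 0 0) * β ((g : Matrix (Fin 2) (Fin 2) F) 1 1) +
      α ((g : Matrix (Fin 2) (Fin 2) F) 1 1) * β ((g : Matrix (Fin 2) (Fin 2) F) 0 0) := by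
  classical
  have hgB : g ∈ upperTriangularGL 2 F := (mem_upper_iff g).mpr h10
  have key : ∀ x : GL (Fin 2) F,
      extendByZero (upperTriangularGL 2 F) (fun b => thetaHom α β b) (x⁻¹ * g * x) =
        (if x ∈ upperTriangularGL 2 F then thetaHom α β ⟨g, hgB⟩ else 0) +
        (if wEl * x ∈ upperTriangularGL 2 F then
          α ((g : Matrix (Fin 2) (Fin 2) F) 1 1) * β ((g : Matrix (Fin 2) (Fin 2) F) 0 0) else 0) := by
    intro x
    by_cases hx : x ∈ upperTriangularGL 2 F
    · have hx00 : (x : Matrix (Fin 2) (Fin 2) F) 0 0 ≠ 0 := by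
        have h := det_ne x
        rw [(mem_upper_iff x).mp hx, mul_zero, sub_zero] at h
        exact left_ne_zero_of_mul h
      rw [if_pos hx, if_neg (fun h => hx00 ((wEl_mul_mem x).mp h)), add_zero]
      exact ext_conj_mem α β g hgB x hx
    · have hs : (x : Matrix (Fin 2) (Fin 2) F) 1 0 ≠ 0 := fun h => hx ((mem_upper_iff x).mpr h)
      have hcf := conj_facts _ _ _ (conj_mat x g) hs h10 (gl_det_ne_zero x) (gl_det_ne_zero g)
      rw [if_neg hx, zero_add]
      by_cases hx0 : (x : Matrix (Fin 2) (Fin 2) F) 0 0 = 0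
      · rw [if_pos ((wEl_mul_mem x).mpr hx0)]
        have hy : ((x⁻¹ * g * x : GL (Fin 2) F) : Matrix (Fin 2) (Fin 2) F) 1 0 = 0 := by
          apply hcf.2
          rw [h01, hx0, zero_mul, mul_zero]
        obtain ⟨y0, y1, _⟩ := hcf.1 hy
        rw [Helper2.extendByZero_of_mem _ _ ((mem_upper_iff _).mpr hy)]
        show thetaHom α β _ = _
        rw [thetaHom_apply]
        show α (((x⁻¹ * g * x : GL (Fin 2) F) : Matrix (Fin 2) (Fin 2) F) 0 0) *
          β (((x⁻¹ * g * x : GL (Fin 2) F) : Matrix (Fin 2) (Fin 2) F) 1 1) = _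
        rw [y0, y1]
      · rw [if_neg (fun h => hx0 ((wEl_mul_mem x).mp h))]
        apply Helper2.extendByZero_of_not_mem
        intro hm
        obtain ⟨_, _, h3⟩ := hcf.1 ((mem_upper_iff _).mp hm)
        rw [h01, zero_mul] at h3
        rcases mul_eq_zero.mp h3.symm with h4 | h4
        · exact hne (sub_eq_zero.mp h4).symm
        · exact hx0 h4
  show indFun _ _ g = _
  rw [Helper2.indFun_apply, Finset.sum_congr rfl (fun x _ => key x), Finset.sum_add_distrib,
    sum_mem_B]
  have h2 : ∑ x : GL (Fin 2) F, (if wEl * x ∈ upperTriangularGL 2 F then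
      α ((g : Matrix (Fin 2) (Fin 2) F) 1 1) * β ((g : Matrix (Fin 2) (Fin 2) F) 0 0) else 0) =
      (Nat.card ↥(upperTriangularGL 2 F) : ℂ) *
        (α ((g : Matrix (Fin 2) (Fin 2) F) 1 1) * β ((g : Matrix (Fin 2) (Fin 2) F) 0 0)) := by
    rw [← sum_mem_B]
    exact Equiv.sum_comp (Equiv.mulLeft (wEl : GL (Fin 2) F)) (fun y => if y ∈ upperTriangularGL 2 F then
      α ((g : Matrix (Fin 2) (Fin 2) F) 1 1) * β ((g : Matrix (Fin 2) (Fin 2) F) 0 0) else 0)
  rw [h2, ← mul_add, ← mul_assoc, inv_mul_cancel₀ (Helper2.natCard_ne_zero_complex _), one_mul,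
    thetaHom_apply]

/-- value on an element without eigenvectors -/
theorem ps_ell (α β : MulChar F ℂ) (g : GL (Fin 2) F)
    (hg : ∀ (c : F) (v : Fin 2 → F), v ≠ 0 → (g : Matrix (Fin 2) (Fin 2) F).mulVec v ≠ c • v) :
    ps α β g = 0 := by
  have key : ∀ x : GL (Fin 2) F,
      extendByZero (upperTriangularGL 2 F) (fun b => thetaHom α β b) (x⁻¹ * g * x) = 0 := by
    intro x
    apply Helper2.extendByZero_of_not_mem
    intro hm
    have hy := (mem_upper_iff _).mp hm
    have hxy := conj_mat x g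
    apply hg (((x⁻¹ * g * x : GL (Fin 2) F) : Matrix (Fin 2) (Fin 2) F) 0 0)
      (fun i => (x : Matrix (Fin 2) (Fin 2) F) i 0)
    · intro h0
      have h00 := congrFun h0 0
      have h10 := congrFun h0 1
      simp only [Pi.zero_apply] at h00 h10
      apply det_ne x
      rw [h00, h10]
      ring
    · ext i
      have := congrFun (congrFun hxy i) 0
      simp only [Matrix.mul_apply, Fin.sum_univ_two, hy, mul_zero, add_zero] at this
      simp only [Matrix.mulVec, dotProduct, Fin.sum_univ_two, Pi.smul_apply, smul_eq_mul]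
      rw [← this]
      ring
  show indFun _ _ g = _
  rw [Helper2.indFun_apply, Finset.sum_congr rfl (fun x _ => key x), Finset.sum_const_zero,
    mul_zero]

/-! ### The linear characters `α ∘ det` and the Steinberg-type characters -/

/-- the linear character `α ∘ det` -/
noncomputable def lin (α : MulChar F ℂ) : GL (Fin 2) F → ℂ :=
  fun g => α ((g : Matrix (Fin 2) (Fin 2) F).det)

theorem lin_apply (α : MulChar F ℂ) (g : GL (Fin 2) F) :
    lin α g = α ((g : Matrix (Fin 2) (Fin 2) F) 0 0 * (g : Matrix (Fin 2) (Fin 2) F) 1 1 -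
      (g : Matrix (Fin 2) (Fin 2) F) 0 1 * (g : Matrix (Fin 2) (Fin 2) F) 1 0) := by
  show α _ = _
  rw [Matrix.det_fin_two]

theorem lin_irr (α : MulChar F ℂ) : IsIrrCharacter (GL (Fin 2) F) (lin α) := by
  have h := Helper25.isIrrCharacter_of_monoidHom
    (α.toUnitHom.comp (Matrix.GeneralLinearGroup.det : GL (Fin 2) F →* Fˣ))
  have e : lin α = fun g : GL (Fin 2) F =>
      (((α.toUnitHom.comp (Matrix.GeneralLinearGroup.det : GL (Fin 2) F →* Fˣ)) g : ℂˣ) : ℂ) := by
    funext g
    simp [lin, MulChar.coe_toUnitHom]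
  rw [e]
  exact h

theorem lin_one (α : MulChar F ℂ) : lin α 1 = 1 := by
  show α _ = 1
  simp

theorem lin_restrict (α : MulChar F ℂ) (b : ↥(upperTriangularGL 2 F)) :
    lin α (b : GL (Fin 2) F) = thetaHom α α b := by
  rw [lin_apply, thetaHom_apply, (mem_upper_iff _).mp b.2, mul_zero, sub_zero, map_mul]

theorem ps_isCharacter (α β : MulChar F ℂ) : IsCharacter (GL (Fin 2) F) (ps α β) :=
  Helper2.isCharacter_indFun (upperTriangularGL 2 F)
    (Helper2.isCharacter_of_isIrrCharacter (theta_irr α β))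

theorem ps_irr (α β : MulChar F ℂ) (h : α ≠ β) : IsIrrCharacter (GL (Fin 2) F) (ps α β) :=
  ind_irr α β h

theorem ps_eq_iff (α β α' β' : MulChar F ℂ) :
    ps α β = ps α' β' ↔ (α = α' ∧ β = β') ∨ (α = β' ∧ β = α') :=
  ind_eq_iff α β α' β'

theorem q_sub_one_ne : ((Fintype.card F : ℂ) - 1) ≠ 0 := by
  have h := one_lt_q (F := F)
  intro h0
  have : (Fintype.card F : ℂ) = 1 := by linear_combination h0
  have : Fintype.card F = 1 := by exact_mod_cast this
  omega

theorem q_ne : (Fintype.card F : ℂ) ≠ 0 := by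
  have h := one_lt_q (F := F)
  exact_mod_cast (by omega : Fintype.card F ≠ 0)

theorem ps_self (α : MulChar F ℂ) : classInner (ps α α) (ps α α) = 2 := by
  classical
  haveI : Fintype ↥(upperTriangularGL 2 F) := Fintype.ofFinite _
  show classInner (indFun _ _) (indFun _ _) = 2
  rw [inner_formula, theta_norm, mulchar_sum, if_pos rfl]
  have hc : (Nat.card {x : GL (Fin 2) F // x ∉ upperTriangularGL 2 F} : ℂ) =
      (Nat.card (GL (Fin 2) F) : ℂ) - (Nat.card ↥(upperTriangularGL 2 F) : ℂ) := by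
    rw [Nat.card_eq_fintype_card, Nat.card_eq_fintype_card, Nat.card_eq_fintype_card,
      Fintype.card_subtype_compl, Nat.cast_sub (Fintype.card_subtype_le _)]
  rw [hc, card_G_complex, card_B_complex, Fintype.card_units,
    Nat.cast_sub (one_lt_q (F := F)).le, Nat.cast_one]
  have h1 := q_sub_one_ne (F := F)
  have h2 := q_ne (F := F)
  field_simp
  ring

theorem lin_isClassFunction (α : MulChar F ℂ) : IsClassFunction (GL (Fin 2) F) (lin α) :=
  Helper2.isClassFunction_of_isCharacter (Helper2.isCharacter_of_isIrrCharacter (lin_irr α))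

theorem ps_isClassFunction (α β : MulChar F ℂ) : IsClassFunction (GL (Fin 2) F) (ps α β) :=
  Helper2.indFun_isClassFunction _ _

theorem ps_lin (α : MulChar F ℂ) : classInner (ps α α) (lin α) = 1 := by
  haveI : Fintype ↥(upperTriangularGL 2 F) := Fintype.ofFinite _
  show classInner (indFun _ _) (lin α) = 1
  rw [Helper2.frobenius_reciprocity _ _ _ (lin_isClassFunction α)]
  have e : (fun h : ↥(upperTriangularGL 2 F) => lin α (h : GL (Fin 2) F)) =
      fun b => thetaHom α α b := by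
    funext b
    exact lin_restrict α b
  rw [e]
  exact theta_norm α α

/-- the irreducible character of degree `q` attached to `α` -/
noncomputable def st (α : MulChar F ℂ) : GL (Fin 2) F → ℂ := ps α α - lin α

theorem st_apply (α : MulChar F ℂ) (g : GL (Fin 2) F) : st α g = ps α α g - lin α g := rfl

theorem ps_eq_st_add (α : MulChar F ℂ) : ps α α = st α + lin α := by
  unfold st
  rw [sub_add_cancel]

theorem st_isClassFunction (α : MulChar F ℂ) : IsClassFunction (GL (Fin 2) F) (st α) := by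
  intro g h
  rw [st_apply, st_apply, ps_isClassFunction α α g h, lin_isClassFunction α g h]

theorem st_irr (α : MulChar F ℂ) : IsIrrCharacter (GL (Fin 2) F) (st α) := by
  have hI := ps_isCharacter α α
  have hlinlin : classInner (lin α) (lin α) = 1 := by
    have := Helper2.classInner_irr_irr (⟨lin α, lin_irr α⟩ : IrrCharacter (GL (Fin 2) F))
      ⟨lin α, lin_irr α⟩
    rw [if_pos rfl] at this
    exact this
  have hchar : IsCharacter (GL (Fin 2) F) (st α) := by
    apply Helper2.isCharacter_of_nat (st_isClassFunction α)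
    intro χ
    unfold st
    rw [Helper2.classInner_sub_left]
    obtain ⟨n, hn⟩ := Helper2.classInner_char_nat hI (Helper2.isCharacter_of_isIrrCharacter χ.2)
    by_cases hχ : (⟨lin α, lin_irr α⟩ : IrrCharacter (GL (Fin 2) F)) = χ
    · subst hχ
      refine ⟨0, ?_⟩
      show classInner (ps α α) (lin α) - classInner (lin α) (lin α) = _
      rw [ps_lin, hlinlin]
      simp
    · have := Helper2.classInner_irr_irr (⟨lin α, lin_irr α⟩ : IrrCharacter (GL (Fin 2) F)) χ
      rw [if_neg hχ] at this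
      refine ⟨n, ?_⟩
      show classInner (ps α α) (χ : GL (Fin 2) F → ℂ) - classInner (lin α) (χ : GL (Fin 2) F → ℂ) = _
      rw [hn, this, sub_zero]
  apply Helper2.isIrrCharacter_of_classInner_self hchar
  unfold st
  rw [Helper2.classInner_sub_left, Helper2.classInner_sub_right, Helper2.classInner_sub_right,
    ps_self, ps_lin, hlinlin, Helper2.classInner_conj_symm (ps α α) (lin α), ps_lin, map_one]
  ring

theorem st_one (α : MulChar F ℂ) : st α 1 = (Fintype.card F : ℂ) := by
  rw [st_apply, ps_one, lin_one]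
  ring

theorem st_diag (α : MulChar F ℂ) (g : GL (Fin 2) F)
    (h01 : (g : Matrix (Fin 2) (Fin 2) F) 0 1 = 0)
    (h10 : (g : Matrix (Fin 2) (Fin 2) F) 1 0 = 0)
    (hne : (g : Matrix (Fin 2) (Fin 2) F) 0 0 ≠ (g : Matrix (Fin 2) (Fin 2) F) 1 1) :
    st α g = α ((g : Matrix (Fin 2) (Fin 2) F) 0 0) * α ((g : Matrix (Fin 2) (Fin 2) F) 1 1) := by
  rw [st_apply, ps_diag α α g h01 h10 hne, lin_apply, h01, zero_mul, sub_zero, map_mul]
  ring

theorem st_ell (α : MulChar F ℂ) (g : GL (Fin 2) F)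
    (hg : ∀ (c : F) (v : Fin 2 → F), v ≠ 0 → (g : Matrix (Fin 2) (Fin 2) F).mulVec v ≠ c • v) :
    st α g = - α ((g : Matrix (Fin 2) (Fin 2) F).det) := by
  rw [st_apply, ps_ell α α g hg, zero_sub]
  rfl

theorem st_jordan (α : MulChar F ℂ) (g : GL (Fin 2) F)
    (h10 : (g : Matrix (Fin 2) (Fin 2) F) 1 0 = 0)
    (heq : (g : Matrix (Fin 2) (Fin 2) F) 0 0 = (g : Matrix (Fin 2) (Fin 2) F) 1 1)
    (h01 : (g : Matrix (Fin 2) (Fin 2) F) 0 1 ≠ 0) : st α g = 0 := by
  rw [st_apply, ps_jordan α α g h10 heq h01, lin_apply, h10, mul_zero, sub_zero, map_mul, sub_self]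

/-- the diagonal element `diag(a, 1)` -/
noncomputable def dg (a : Fˣ) : GL (Fin 2) F := mk2 (a : F) 0 0 1 (by simp)

theorem lin_inj (α α' : MulChar F ℂ) (h : lin α = lin α') : α = α' := by
  apply MulChar.ext
  intro a
  have := congrFun h (dg a)
  rw [lin_apply, lin_apply] at this
  simpa [dg, mk2_coe] using this

theorem st_inj (α α' : MulChar F ℂ) (h : st α = st α') : α = α' := by
  apply MulChar.ext
  intro a
  by_cases ha : a = 1
  · rw [ha]
    simp
  · have hne : ((dg a : GL (Fin 2) F) : Matrix (Fin 2) (Fin 2) F) 0 0 ≠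
        ((dg a : GL (Fin 2) F) : Matrix (Fin 2) (Fin 2) F) 1 1 := by
      show (a : F) ≠ 1
      intro h1
      exact ha (Units.ext h1)
    have := congrFun h (dg a)
    rw [st_diag α (dg a) rfl rfl hne, st_diag α' (dg a) rfl rfl hne] at this
    simpa [dg, mk2_coe] using this

theorem ps_orth_of_ne (χ : IrrCharacter (GL (Fin 2) F))
    (h1 : ∀ α : MulChar F ℂ, (χ : GL (Fin 2) F → ℂ) ≠ lin α)
    (h2 : ∀ α : MulChar F ℂ, (χ : GL (Fin 2) F → ℂ) ≠ st α)
    (h3 : ∀ α β : MulChar F ℂ, α ≠ β → (χ : GL (Fin 2) F → ℂ) ≠ ps α β) (α β : MulChar F ℂ) :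
    classInner (ps α β) (χ : GL (Fin 2) F → ℂ) = 0 := by
  by_cases hαβ : α = β
  · subst hαβ
    rw [ps_eq_st_add, Helper2.classInner_add_left]
    have e1 := Helper2.classInner_irr_irr (⟨st α, st_irr α⟩ : IrrCharacter (GL (Fin 2) F)) χ
    have e2 := Helper2.classInner_irr_irr (⟨lin α, lin_irr α⟩ : IrrCharacter (GL (Fin 2) F)) χ
    rw [if_neg (fun h => h2 α (congrArg Subtype.val h).symm)] at e1
    rw [if_neg (fun h => h1 α (congrArg Subtype.val h).symm)] at e2
    show classInner (st α) _ + classInner (lin α) _ = 0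
    rw [e1, e2, add_zero]
  · have e1 := Helper2.classInner_irr_irr
      (⟨ps α β, ps_irr α β hαβ⟩ : IrrCharacter (GL (Fin 2) F)) χ
    rw [if_neg (fun h => h3 α β hαβ (congrArg Subtype.val h).symm)] at e1
    exact e1

end Cfsg.Agent.Helper14.GL2
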