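import Mathlib
import Cfsg.Agent.Helper14.GL2Ind
import Cfsg.Agent.Helper1.CharClass

set_option autoImplicit false
set_option linter.unusedSectionVars false

/-!
# The irreducible characters of `GL₂(F)`: classification

`classify`: an irreducible character of `GL₂(F)` is `α ∘ det`, or `st α` (degree `q`), or a
principal series `ps α β` (`α ≠ β`, degree `q + 1`), or has degree `q - 1`, value `-1` at
transvections and vanishes on the split regular semisimple elements.
-/

namespace Cfsg.Agent.Helper14.GL2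

open Cfsg
open scoped ComplexConjugate MatrixGroups

variable {F : Type*} [Field F] [Fintype F] [DecidableEq F]

section Orth
variable [Fintype (MulChar F ℂ)]

theorem card_mulChar : Fintype.card (MulChar F ℂ) = Fintype.card F - 1 := by
  rw [← Nat.card_eq_fintype_card, MulChar.card_eq_card_units_of_hasEnoughRootsOfUnity,
    Nat.card_units, Nat.card_eq_fintype_card]

theorem mulchar_col (a : Fˣ) :
    ∑ α : MulChar F ℂ, α (a : F) = if a = 1 then ((Fintype.card F : ℂ) - 1) else 0 := by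
  split_ifs with ha
  · subst ha
    simp only [Units.val_one, map_one, Finset.sum_const, Finset.card_univ, nsmul_eq_mul, mul_one]
    rw [card_mulChar, Nat.cast_sub (one_lt_q (F := F)).le, Nat.cast_one]
  · have ha' : (a : F) ≠ 1 := fun h => ha (Units.ext h)
    obtain ⟨χ, hχ⟩ := MulChar.exists_apply_ne_one_of_hasEnoughRootsOfUnity F ℂ ha'
    refine eq_zero_of_mul_eq_self_left hχ ?_
    simp only [Finset.mul_sum, ← MulChar.mul_apply]
    exact Fintype.sum_bijective _ (Group.mulLeft_bijective χ) _ _ fun χ' ↦ rfl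

theorem mulchar_sep (f : Fˣ → ℂ) (h : ∀ α : MulChar F ℂ, ∑ a : Fˣ, α (a : F) * f a = 0)
    (a0 : Fˣ) : f a0 = 0 := by
  have h1 : ∑ α : MulChar F ℂ, α ((a0⁻¹ : Fˣ) : F) * ∑ a : Fˣ, α (a : F) * f a = 0 := by
    apply Finset.sum_eq_zero
    intro α _
    rw [h α, mul_zero]
  have h2 : ∑ α : MulChar F ℂ, α ((a0⁻¹ : Fˣ) : F) * ∑ a : Fˣ, α (a : F) * f a =
      ∑ a : Fˣ, f a * ∑ α : MulChar F ℂ, α ((a0⁻¹ * a : Fˣ) : F) := by
    simp only [Finset.mul_sum]
    rw [Finset.sum_comm]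
    apply Finset.sum_congr rfl
    intro a _
    apply Finset.sum_congr rfl
    intro α _
    rw [Units.val_mul, map_mul]
    ring
  rw [h2] at h1
  simp only [mulchar_col] at h1
  rw [Finset.sum_eq_single a0] at h1
  · rw [if_pos (inv_mul_cancel a0)] at h1
    exact (mul_eq_zero.mp h1).resolve_right q_sub_one_ne
  · intro b _ hb
    rw [if_neg, mul_zero]
    intro h
    apply hb
    rw [inv_mul_eq_one] at h
    exact h.symm
  · intro h
    exact absurd (Finset.mem_univ _) h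

end Orth

/-- the element `[[a, x], [0, d]]` -/
noncomputable def tri (a d : Fˣ) (x : F) : GL (Fin 2) F := mk2 (a : F) x 0 (d : F) (by simp)

theorem tri_coe (a d : Fˣ) (x : F) :
    ((tri a d x : GL (Fin 2) F) : Matrix (Fin 2) (Fin 2) F) = !![(a : F), x; 0, (d : F)] := rfl

theorem tri_eq (a d : Fˣ) (x : F) :
    ((bEquiv.symm (a, d, x) : ↥(upperTriangularGL 2 F)) : GL (Fin 2) F) = tri a d x := rfl

theorem cusp_sum (χ : GL (Fin 2) F → ℂ) (hχ : IsClassFunction (GL (Fin 2) F) χ)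
    (hc : ∀ α β : MulChar F ℂ, classInner (ps α β) χ = 0) (a d : Fˣ) :
    ∑ x : F, χ (tri a d x) = 0 := by
  classical
  haveI : Fintype ↥(upperTriangularGL 2 F) := Fintype.ofFinite _
  haveI : Fintype (MulChar F ℂ) := Fintype.ofFinite _
  have h1 : ∀ α β : MulChar F ℂ, ∑ a : Fˣ, α (a : F) *
      ∑ d : Fˣ, β (d : F) * ∑ x : F, conj (χ (tri a d x)) = 0 := by
    intro α β
    have h := hc α β
    change classInner (indFun _ _) χ = 0 at h
    rw [Helper2.frobenius_reciprocity _ _ _ hχ] at h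
    unfold classInner at h
    have h' := (mul_eq_zero.mp h).resolve_left (inv_ne_zero (Helper2.natCard_ne_zero_complex _))
    rw [← Equiv.sum_comp (bEquiv (F := F)).symm, Fintype.sum_prod_type] at h'
    rw [← h']
    apply Finset.sum_congr rfl
    intro a _
    rw [Fintype.sum_prod_type, Finset.mul_sum]
    apply Finset.sum_congr rfl
    intro d _
    rw [Finset.mul_sum, Finset.mul_sum]
    apply Finset.sum_congr rfl
    intro x _
    beta_reduce
    rw [thetaHom_apply, tri_eq, tri_coe]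
    simp only [Matrix.of_apply, Matrix.cons_val', Matrix.cons_val_zero, Matrix.cons_val_one,
      Matrix.cons_val_fin_one]
    ring
  have h2 : ∀ (β : MulChar F ℂ) (a : Fˣ), ∑ d : Fˣ, β (d : F) * ∑ x : F, conj (χ (tri a d x)) = 0 :=
    fun β a => mulchar_sep (fun a => ∑ d : Fˣ, β (d : F) * ∑ x : F, conj (χ (tri a d x)))
      (fun α => h1 α β) a
  have h3 : ∑ x : F, conj (χ (tri a d x)) = 0 :=
    mulchar_sep (fun d => ∑ x : F, conj (χ (tri a d x))) (fun β => h2 β a) d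
  have h4 := congrArg conj h3
  simpa [map_sum] using h4

theorem tri_conj_diag (a d : Fˣ) (hne : a ≠ d) (x : F) : IsConj (tri a d x) (tri a d 0) := by
  have hda : (d : F) - a ≠ 0 := by
    intro h
    apply hne
    exact Units.ext (sub_eq_zero.mp h).symm
  apply isConj_of_mul_eq _ _ (mk2 1 (x / ((d : F) - a)) 0 1 (by simp))
  rw [tri_coe, tri_coe, mk2_coe]
  ext i j
  fin_cases i <;> fin_cases j <;> simp [Matrix.mul_apply, Fin.sum_univ_two]
  field_simp
  ring

theorem tri_conj_unip (a : Fˣ) (x : F) (hx : x ≠ 0) : IsConj (tri a a x) (tri a a 1) := by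
  apply isConj_of_mul_eq _ _ (mk2 x 0 0 1 (by simpa using hx))
  rw [tri_coe, tri_coe, mk2_coe]
  ext i j
  fin_cases i <;> fin_cases j <;> simp [Matrix.mul_apply, Fin.sum_univ_two, mul_comm]

theorem cusp_diag (χ : GL (Fin 2) F → ℂ) (hχ : IsCharacter (GL (Fin 2) F) χ)
    (hc : ∀ α β : MulChar F ℂ, classInner (ps α β) χ = 0) (g : GL (Fin 2) F)
    (h01 : (g : Matrix (Fin 2) (Fin 2) F) 0 1 = 0)
    (h10 : (g : Matrix (Fin 2) (Fin 2) F) 1 0 = 0)
    (hne : (g : Matrix (Fin 2) (Fin 2) F) 0 0 ≠ (g : Matrix (Fin 2) (Fin 2) F) 1 1) :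
    χ g = 0 := by
  have hdet := det_ne g
  rw [h01, zero_mul, sub_zero] at hdet
  have h00 : (g : Matrix (Fin 2) (Fin 2) F) 0 0 ≠ 0 := left_ne_zero_of_mul hdet
  have h11 : (g : Matrix (Fin 2) (Fin 2) F) 1 1 ≠ 0 := right_ne_zero_of_mul hdet
  have hg : g = tri (Units.mk0 _ h00) (Units.mk0 _ h11) 0 := by
    apply Units.ext
    rw [tri_coe, Units.val_mk0, Units.val_mk0]
    conv_lhs => rw [Matrix.eta_fin_two (g : Matrix (Fin 2) (Fin 2) F), h01, h10]
  have hne' : Units.mk0 _ h00 ≠ Units.mk0 _ h11 := by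
    intro h
    apply hne
    have := congrArg (fun u : Fˣ => (u : F)) h
    simpa using this
  have hsum := cusp_sum χ (Helper2.isClassFunction_of_isCharacter hχ) hc
    (Units.mk0 _ h00) (Units.mk0 _ h11)
  rw [Finset.sum_congr rfl (fun x _ => Helper25.char_of_isConj hχ
    (tri_conj_diag (Units.mk0 _ h00) (Units.mk0 _ h11) hne' x)), Finset.sum_const,
    Finset.card_univ, nsmul_eq_mul] at hsum
  rw [hg]
  exact (mul_eq_zero.mp hsum).resolve_left q_ne

theorem cusp_unip_sum (χ : GL (Fin 2) F → ℂ) (hχ : IsCharacter (GL (Fin 2) F) χ)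
    (hc : ∀ α β : MulChar F ℂ, classInner (ps α β) χ = 0) (a : Fˣ) :
    χ (scal a) + ((Fintype.card F : ℂ) - 1) * χ (tri a a 1) = 0 := by
  have hsum := cusp_sum χ (Helper2.isClassFunction_of_isCharacter hχ) hc a a
  rw [← Finset.add_sum_erase Finset.univ _ (Finset.mem_univ (0 : F))] at hsum
  have h1 : ∀ x ∈ Finset.univ.erase (0 : F), χ (tri a a x) = χ (tri a a 1) := by
    intro x hx
    exact Helper25.char_of_isConj hχ (tri_conj_unip a x (Finset.ne_of_mem_erase hx))
  rw [Finset.sum_congr rfl h1, Finset.sum_const, Finset.card_erase_of_mem (Finset.mem_univ _),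
    Finset.card_univ, nsmul_eq_mul, Nat.cast_sub (one_lt_q (F := F)).le, Nat.cast_one] at hsum
  exact hsum

theorem scal_one : (scal (1 : Fˣ) : GL (Fin 2) F) = 1 := by
  apply Units.ext
  rw [scal_coe]
  simp [Matrix.one_fin_two]

theorem cusp_deg (χ : IrrCharacter (GL (Fin 2) F))
    (hc : ∀ α β : MulChar F ℂ, classInner (ps α β) (χ : GL (Fin 2) F → ℂ) = 0) :
    ∃ m : ℕ, 0 < m ∧ charDegree (χ : GL (Fin 2) F → ℂ) = m * (Fintype.card F - 1) := by
  have hchar := Helper2.isCharacter_of_isIrrCharacter χ.2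
  have h := cusp_unip_sum (χ : GL (Fin 2) F → ℂ) hchar hc 1
  rw [scal_one, Helper25.irr_one_eq_degree] at h
  have hpos := Helper25.irr_degree_pos χ
  have hq := one_lt_q (F := F)
  have hq1 := q_sub_one_ne (F := F)
  obtain ⟨n, hn⟩ : ∃ n : ℕ, n = charDegree (χ : GL (Fin 2) F → ℂ) := ⟨_, rfl⟩
  rw [← hn] at h hpos ⊢
  have hint := Helper25.char_isIntegral hchar (tri (1 : Fˣ) 1 1)
  have hrat : (χ : GL (Fin 2) F → ℂ) (tri (1 : Fˣ) 1 1) =
      ((-(n : ℚ) / ((Fintype.card F : ℚ) - 1) : ℚ) : ℂ) := by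
    push_cast
    rw [eq_div_iff hq1]
    linear_combination h
  have h1 : (χ : GL (Fin 2) F → ℂ) (tri (1 : Fˣ) 1 1) = algebraMap ℚ ℂ
      (-(n : ℚ) / ((Fintype.card F : ℚ) - 1)) := by
    rw [hrat]
    rfl
  rw [h1, isIntegral_algebraMap_iff (algebraMap ℚ ℂ).injective] at hint
  obtain ⟨k, hk⟩ := IsIntegrallyClosed.isIntegral_iff.mp hint
  have hk' : (χ : GL (Fin 2) F → ℂ) (tri (1 : Fˣ) 1 1) = (k : ℂ) := by
    rw [hrat, ← hk]
    simp
  rw [hk'] at h
  have hz : (n : ℤ) + ((Fintype.card F : ℤ) - 1) * k = 0 := by exact_mod_cast h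
  have hq' : (1 : ℤ) < (Fintype.card F : ℤ) := by exact_mod_cast hq
  have hkneg : k < 0 := by
    by_contra hk0
    push Not at hk0
    have hn0 : (0 : ℤ) < n := by exact_mod_cast hpos
    nlinarith
  obtain ⟨m, hm⟩ := Int.exists_eq_neg_ofNat hkneg.le
  refine ⟨m, ?_, ?_⟩
  · rw [hm] at hkneg
    omega
  · have : (n : ℤ) = (m : ℤ) * (((Fintype.card F - 1 : ℕ)) : ℤ) := by
      rw [Nat.cast_sub hq.le, Nat.cast_one]
      rw [hm] at hz
      linear_combination hz
    exact_mod_cast this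

/-! ### Counting -/

/-- the principal series as a function of an unordered pair -/
noncomputable def psSym : Sym2 (MulChar F ℂ) → (GL (Fin 2) F → ℂ) :=
  Sym2.lift ⟨fun α β => ps α β, fun α β => (ps_eq_iff α β β α).mpr (Or.inr ⟨rfl, rfl⟩)⟩

theorem psSym_mk (α β : MulChar F ℂ) : psSym s(α, β) = ps α β := rfl

theorem psSym_irr (z : Sym2 (MulChar F ℂ)) (hz : ¬ z.IsDiag) :
    IsIrrCharacter (GL (Fin 2) F) (psSym z) := by
  induction z using Sym2.ind with
  | _ α β => exact ps_irr α β (fun h => hz (Sym2.mk_isDiag_iff.mpr h))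

theorem psSym_inj (z z' : Sym2 (MulChar F ℂ)) (h : psSym z = psSym z') : z = z' := by
  induction z using Sym2.ind with
  | _ α β =>
    induction z' using Sym2.ind with
    | _ α' β' =>
      rw [psSym_mk, psSym_mk, ps_eq_iff] at h
      rw [Sym2.eq_iff]
      exact h

theorem psSym_one (z : Sym2 (MulChar F ℂ)) : psSym z 1 = (Fintype.card F : ℂ) + 1 := by
  induction z using Sym2.ind with
  | _ α β => exact ps_one α β

theorem deg_eq (χ : IrrCharacter (GL (Fin 2) F)) (n : ℕ)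
    (h : (χ : GL (Fin 2) F → ℂ) 1 = (n : ℂ)) : charDegree (χ : GL (Fin 2) F → ℂ) = n := by
  rw [Helper25.irr_one_eq_degree] at h
  exact_mod_cast h

theorem sum_deg_sq [Fintype (IrrCharacter (GL (Fin 2) F))] :
    ∑ χ : IrrCharacter (GL (Fin 2) F), (charDegree (χ : GL (Fin 2) F → ℂ) : ℤ) ^ 2 =
      ((Fintype.card F : ℤ) - 1) ^ 2 * (Fintype.card F : ℤ) * ((Fintype.card F : ℤ) + 1) := by
  classical
  have h := Helper1.col_orth (G := GL (Fin 2) F) 1 1
  rw [if_pos (IsConj.refl 1)] at h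
  have hcent : Nat.card (Subgroup.centralizer ({1} : Set (GL (Fin 2) F))) =
      Nat.card (GL (Fin 2) F) := by
    rw [Subgroup.centralizer_eq_top_iff_subset.mpr (by simp), Subgroup.card_top]
  rw [hcent, card_G_complex] at h
  have h2 : ∀ χ : IrrCharacter (GL (Fin 2) F), (χ : GL (Fin 2) F → ℂ) 1 *
      conj ((χ : GL (Fin 2) F → ℂ) 1) = ((charDegree (χ : GL (Fin 2) F → ℂ) : ℤ) : ℂ) ^ 2 := by
    intro χ
    rw [Helper25.irr_one_eq_degree]
    simp [sq]
  rw [Finset.sum_congr rfl (fun χ _ => h2 χ)] at h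
  exact_mod_cast h

/-- an irreducible character outside the three explicit families has degree `q - 1` -/
theorem other_deg (χ₀ : IrrCharacter (GL (Fin 2) F))
    (h1 : ∀ α : MulChar F ℂ, (χ₀ : GL (Fin 2) F → ℂ) ≠ lin α)
    (h2 : ∀ α : MulChar F ℂ, (χ₀ : GL (Fin 2) F → ℂ) ≠ st α)
    (h3 : ∀ α β : MulChar F ℂ, α ≠ β → (χ₀ : GL (Fin 2) F → ℂ) ≠ ps α β) :
    charDegree (χ₀ : GL (Fin 2) F → ℂ) = Fintype.card F - 1 := by
  classical
  haveI : Fintype (IrrCharacter (GL (Fin 2) F)) := Fintype.ofFinite _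
  haveI : Fintype (MulChar F ℂ) := Fintype.ofFinite _
  have hq1 := one_lt_q (F := F)
  obtain ⟨q, hq⟩ : ∃ q : ℤ, q = (Fintype.card F : ℤ) := ⟨_, rfl⟩
  have hq1' : 1 < q := by rw [hq]; exact_mod_cast hq1
  obtain ⟨w, hw⟩ : ∃ w : IrrCharacter (GL (Fin 2) F) → ℤ,
      ∀ χ, w χ = (charDegree (χ : GL (Fin 2) F → ℂ) : ℤ) ^ 2 - (q - 1) ^ 2 :=
    ⟨fun χ => (charDegree (χ : GL (Fin 2) F → ℂ) : ℤ) ^ 2 - (q - 1) ^ 2, fun χ => rfl⟩
  have hcard : (Fintype.card (IrrCharacter (GL (Fin 2) F)) : ℤ) = q ^ 2 - 1 := by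
    rw [← Nat.card_eq_fintype_card, Helper1.card_irr, card_conjClasses,
      Nat.cast_sub (Nat.one_le_pow _ _ (by omega)), hq]
    push_cast
    ring
  have htot : ∑ χ : IrrCharacter (GL (Fin 2) F), w χ =
      (q - 1) ^ 2 * q * (q + 1) - (q ^ 2 - 1) * (q - 1) ^ 2 := by
    rw [Finset.sum_congr rfl (fun χ _ => hw χ), Finset.sum_sub_distrib, sum_deg_sq,
      Finset.sum_const, Finset.card_univ, nsmul_eq_mul, hcard, hq]
  -- the three families
  obtain ⟨fA, hfA⟩ : ∃ fA : MulChar F ℂ → IrrCharacter (GL (Fin 2) F),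
      ∀ α, fA α = ⟨lin α, lin_irr α⟩ := ⟨fun α => ⟨lin α, lin_irr α⟩, fun α => rfl⟩
  obtain ⟨fC, hfC⟩ : ∃ fC : MulChar F ℂ → IrrCharacter (GL (Fin 2) F),
      ∀ α, fC α = ⟨st α, st_irr α⟩ := ⟨fun α => ⟨st α, st_irr α⟩, fun α => rfl⟩
  obtain ⟨fP, hfP⟩ : ∃ fP : {z : Sym2 (MulChar F ℂ) // ¬ z.IsDiag} → IrrCharacter (GL (Fin 2) F),
      ∀ z, fP z = ⟨psSym z.1, psSym_irr z.1 z.2⟩ :=
    ⟨fun z => ⟨psSym z.1, psSym_irr z.1 z.2⟩, fun z => rfl⟩
  have hA : Function.Injective fA := by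
    intro α α' h
    rw [hfA, hfA] at h
    exact lin_inj α α' (congrArg Subtype.val h)
  have hC : Function.Injective fC := by
    intro α α' h
    rw [hfC, hfC] at h
    exact st_inj α α' (congrArg Subtype.val h)
  have hP : Function.Injective fP := by
    intro z z' h
    rw [hfP, hfP] at h
    exact Subtype.ext (psSym_inj z.1 z'.1 (congrArg Subtype.val h))
  have dA : ∀ α, charDegree (fA α : GL (Fin 2) F → ℂ) = 1 := by
    intro α
    apply deg_eq
    rw [hfA]
    show lin α 1 = _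
    rw [lin_one, Nat.cast_one]
  have dC : ∀ α, charDegree (fC α : GL (Fin 2) F → ℂ) = Fintype.card F := by
    intro α
    apply deg_eq
    rw [hfC]
    exact st_one α
  have dP : ∀ z, charDegree (fP z : GL (Fin 2) F → ℂ) = Fintype.card F + 1 := by
    intro z
    apply deg_eq
    rw [hfP]
    show psSym z.1 1 = _
    rw [psSym_one]
    push_cast
    rfl
  have hwA : ∀ α, w (fA α) = 1 - (q - 1) ^ 2 := by
    intro α
    rw [hw, dA α]
    norm_num
  have hwC : ∀ α, w (fC α) = q ^ 2 - (q - 1) ^ 2 := by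
    intro α
    rw [hw, dC α, hq]
  have hwP : ∀ z, w (fP z) = (q + 1) ^ 2 - (q - 1) ^ 2 := by
    intro z
    rw [hw, dP z, hq]
    push_cast
    ring
  have hcT : (Fintype.card (MulChar F ℂ) : ℤ) = q - 1 := by
    rw [card_mulChar, Nat.cast_sub hq1.le, hq]
    simp
  have sA : ∑ χ ∈ Finset.univ.image fA, w χ = (q - 1) * (1 - (q - 1) ^ 2) := by
    rw [Finset.sum_image (fun a _ b _ h => hA h), Finset.sum_congr rfl (fun α _ => hwA α),
      Finset.sum_const, Finset.card_univ, nsmul_eq_mul, hcT]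
  have sC : ∑ χ ∈ Finset.univ.image fC, w χ = (q - 1) * (q ^ 2 - (q - 1) ^ 2) := by
    rw [Finset.sum_image (fun a _ b _ h => hC h), Finset.sum_congr rfl (fun α _ => hwC α),
      Finset.sum_const, Finset.card_univ, nsmul_eq_mul, hcT]
  have hcS : (Fintype.card {z : Sym2 (MulChar F ℂ) // ¬ z.IsDiag} : ℤ) * 2 = (q - 1) * (q - 2) := by
    rw [Sym2.card_subtype_not_diag, card_mulChar]
    have h2 : (Fintype.card F - 1).choose 2 * 2 = (Fintype.card F - 1) * (Fintype.card F - 1 - 1) := by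
      rw [Nat.choose_two_right]
      exact Nat.div_mul_cancel (even_iff_two_dvd.mp (Nat.even_mul_pred_self _))
    have h3 : (((Fintype.card F - 1).choose 2 * 2 : ℕ) : ℤ) =
        (((Fintype.card F - 1) * (Fintype.card F - 1 - 1) : ℕ) : ℤ) := by rw [h2]
    obtain ⟨k, hk⟩ : ∃ k, Fintype.card F = k + 2 := ⟨Fintype.card F - 2, by omega⟩
    rw [hq, hk]
    rw [hk] at h3
    simp only [Nat.add_sub_cancel, show k + 2 - 1 = k + 1 by omega] at h3 ⊢
    push_cast at h3 ⊢
    linear_combination h3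
  have sP : (∑ χ ∈ Finset.univ.image fP, w χ) = 2 * q * ((q - 1) * (q - 2)) := by
    rw [Finset.sum_image (fun a _ b _ h => hP h), Finset.sum_congr rfl (fun z _ => hwP z),
      Finset.sum_const, Finset.card_univ, nsmul_eq_mul]
    linear_combination (2 * q) * hcS
  have dAC : Disjoint (Finset.univ.image fA) (Finset.univ.image fC) := by
    rw [Finset.disjoint_left]
    intro χ hχA hχC
    obtain ⟨α, _, rfl⟩ := Finset.mem_image.mp hχA
    obtain ⟨α', _, h⟩ := Finset.mem_image.mp hχC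
    have := dC α'
    rw [h, dA α] at this
    omega
  have dACP : Disjoint (Finset.univ.image fA ∪ Finset.univ.image fC) (Finset.univ.image fP) := by
    rw [Finset.disjoint_left]
    intro χ hχ hχP
    obtain ⟨z, _, rfl⟩ := Finset.mem_image.mp hχP
    have hd := dP z
    rcases Finset.mem_union.mp hχ with hχA | hχC
    · obtain ⟨α, _, h⟩ := Finset.mem_image.mp hχA
      rw [← h, dA α] at hd
      omega
    · obtain ⟨α, _, h⟩ := Finset.mem_image.mp hχC
      rw [← h, dC α] at hd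
      omega
  obtain ⟨S, hS⟩ : ∃ S : Finset (IrrCharacter (GL (Fin 2) F)),
      S = Finset.univ.image fA ∪ Finset.univ.image fC ∪ Finset.univ.image fP := ⟨_, rfl⟩
  have hsplit := Finset.sum_sdiff (Finset.subset_univ S) (f := w)
  have hSsum : ∑ χ ∈ S, w χ = (q - 1) * (1 - (q - 1) ^ 2) + (q - 1) * (q ^ 2 - (q - 1) ^ 2) +
      2 * q * ((q - 1) * (q - 2)) := by
    rw [hS, Finset.sum_union dACP, Finset.sum_union dAC, sA, sC, sP]
  have hR : ∑ χ ∈ Finset.univ \ S, w χ = 0 := by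
    rw [hSsum, htot] at hsplit
    linear_combination hsplit
  have hother : ∀ χ ∈ Finset.univ \ S, (∀ α : MulChar F ℂ, (χ : GL (Fin 2) F → ℂ) ≠ lin α) ∧
      (∀ α : MulChar F ℂ, (χ : GL (Fin 2) F → ℂ) ≠ st α) ∧
      (∀ α β : MulChar F ℂ, α ≠ β → (χ : GL (Fin 2) F → ℂ) ≠ ps α β) := by
    intro χ hχ
    have hχS : χ ∉ S := (Finset.mem_sdiff.mp hχ).2
    rw [hS] at hχS
    refine ⟨?_, ?_, ?_⟩
    · intro α h
      apply hχS
      apply Finset.mem_union_left
      apply Finset.mem_union_left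
      exact Finset.mem_image.mpr ⟨α, Finset.mem_univ _, by rw [hfA]; exact Subtype.ext h.symm⟩
    · intro α h
      apply hχS
      apply Finset.mem_union_left
      apply Finset.mem_union_right
      exact Finset.mem_image.mpr ⟨α, Finset.mem_univ _, by rw [hfC]; exact Subtype.ext h.symm⟩
    · intro α β hαβ h
      apply hχS
      apply Finset.mem_union_right
      exact Finset.mem_image.mpr ⟨⟨s(α, β), fun hd => hαβ (Sym2.mk_isDiag_iff.mp hd)⟩,
        Finset.mem_univ _, by rw [hfP]; exact Subtype.ext h.symm⟩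
  have hnn : ∀ χ ∈ Finset.univ \ S, 0 ≤ w χ := by
    intro χ hχ
    obtain ⟨g1, g2, g3⟩ := hother χ hχ
    obtain ⟨m, hm0, hm⟩ := cusp_deg χ (ps_orth_of_ne χ g1 g2 g3)
    rw [hw, hm, Nat.cast_mul, Nat.cast_sub hq1.le, ← hq]
    have hm1 : (1 : ℤ) ≤ m := by exact_mod_cast hm0
    have : (0 : ℤ) ≤ ((m : ℤ) ^ 2 - 1) * (q - 1) ^ 2 := by
      apply mul_nonneg
      · nlinarith
      · positivity
    push_cast
    linarith
  have hmem : χ₀ ∈ Finset.univ \ S := by
    rw [Finset.mem_sdiff]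
    refine ⟨Finset.mem_univ _, ?_⟩
    rw [hS]
    intro h
    rcases Finset.mem_union.mp h with h | h
    · rcases Finset.mem_union.mp h with h | h
      · obtain ⟨α, _, h⟩ := Finset.mem_image.mp h
        rw [hfA] at h
        exact h1 α (congrArg Subtype.val h).symm
      · obtain ⟨α, _, h⟩ := Finset.mem_image.mp h
        rw [hfC] at h
        exact h2 α (congrArg Subtype.val h).symm
    · obtain ⟨z, _, h⟩ := Finset.mem_image.mp h
      rw [hfP] at h
      obtain ⟨z, hz⟩ := z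
      induction z using Sym2.ind with
      | _ α β =>
        exact h3 α β (fun hαβ => hz (Sym2.mk_isDiag_iff.mpr hαβ)) (congrArg Subtype.val h).symm
  have hz := (Finset.sum_eq_zero_iff_of_nonneg hnn).mp hR χ₀ hmem
  rw [hw] at hz
  have hd0 : (0 : ℤ) ≤ (charDegree (χ₀ : GL (Fin 2) F → ℂ) : ℤ) := by positivity
  have hfin : (charDegree (χ₀ : GL (Fin 2) F → ℂ) : ℤ) = q - 1 := by nlinarith
  have : (charDegree (χ₀ : GL (Fin 2) F → ℂ) : ℤ) = ((Fintype.card F - 1 : ℕ) : ℤ) := by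
    rw [hfin, hq, Nat.cast_sub hq1.le]
    simp
  exact_mod_cast this

/-- **Classification of the irreducible characters of `GL₂(F)`.** -/
theorem classify (χ : GL (Fin 2) F → ℂ) (hχ : IsIrrCharacter (GL (Fin 2) F) χ) :
    (∃ α : MulChar F ℂ, χ = lin α) ∨ (∃ α : MulChar F ℂ, χ = st α) ∨
    (∃ α β : MulChar F ℂ, α ≠ β ∧ χ = ps α β) ∨
    (χ 1 = (Fintype.card F : ℂ) - 1 ∧
      (∀ u : GL (Fin 2) F, (u : Matrix (Fin 2) (Fin 2) F) = !![1, 1; 0, 1] → χ u = -1) ∧
      (∀ g : GL (Fin 2) F, (g : Matrix (Fin 2) (Fin 2) F) 0 1 = 0 →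
        (g : Matrix (Fin 2) (Fin 2) F) 1 0 = 0 →
        (g : Matrix (Fin 2) (Fin 2) F) 0 0 ≠ (g : Matrix (Fin 2) (Fin 2) F) 1 1 → χ g = 0)) := by
  by_cases h1 : ∃ α : MulChar F ℂ, χ = lin α
  · exact Or.inl h1
  by_cases h2 : ∃ α : MulChar F ℂ, χ = st α
  · exact Or.inr (Or.inl h2)
  by_cases h3 : ∃ α β : MulChar F ℂ, α ≠ β ∧ χ = ps α β
  · exact Or.inr (Or.inr (Or.inl h3))
  right; right; right
  push Not at h1 h2 h3
  have hc := ps_orth_of_ne ⟨χ, hχ⟩ h1 h2 h3
  have hdeg := other_deg ⟨χ, hχ⟩ h1 h2 h3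
  have hchar := Helper2.isCharacter_of_isIrrCharacter hχ
  have hq1 := one_lt_q (F := F)
  have hone : χ 1 = (Fintype.card F : ℂ) - 1 := by
    have := Helper25.irr_one_eq_degree (⟨χ, hχ⟩ : IrrCharacter (GL (Fin 2) F))
    rw [hdeg, Nat.cast_sub hq1.le, Nat.cast_one] at this
    exact this
  refine ⟨hone, ?_, fun g h01 h10 hne => cusp_diag χ hchar hc g h01 h10 hne⟩
  intro u hu
  have hs := cusp_unip_sum χ hchar hc 1
  rw [scal_one, hone] at hs
  have hu' : u = tri (1 : Fˣ) 1 1 := by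
    apply Units.ext
    rw [hu, tri_coe]
    simp
  rw [hu']
  have hq := q_sub_one_ne (F := F)
  have : ((Fintype.card F : ℂ) - 1) * (1 + χ (tri (1 : Fˣ) 1 1)) = 0 := by linear_combination hs
  have := (mul_eq_zero.mp this).resolve_left hq
  linear_combination this

end Cfsg.Agent.Helper14.GL2
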