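import Mathlib
import Cfsg.Agent.Helper14.GL2Cusp
import Cfsg.Agent.Helper24.InvConst
import Cfsg.Agent.Helper1.CharComplete

set_option autoImplicit false
set_option linter.unusedSectionVars false

/-!
# Restriction of characters from `GL₂(F)` to `SL₂(F)`

* `exists_above`: every irreducible character of `SL₂(F)` is a constituent of the restriction
  of an irreducible character of `GL₂(F)`;
* `same_degree`: (Clifford) the irreducible constituents of such a restriction have the same
  degree;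
* `above`: for `ψ ∈ Irr(SL₂)` there are `χ ∈ Irr(GL₂)` and `k ≥ 1` with `χ(1) = k ψ(1)`, and
  `ψ = χ|SL₂` if `k = 1`.
-/

namespace Cfsg.Agent.Helper14.GL2

open Cfsg
open scoped ComplexConjugate MatrixGroups

section RegSum

open Classical in
theorem reg_sum {G : Type*} [Group G] [Fintype G] [Fintype (IrrCharacter G)] (g : G) :
    ∑ χ : IrrCharacter G, (χ : G → ℂ) 1 * (χ : G → ℂ) g =
      if g = 1 then (Nat.card G : ℂ) else 0 := by
  classical
  have h := Helper1.col_orth (G := G) g 1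
  have h2 : ∀ χ : IrrCharacter G, (χ : G → ℂ) g * conj ((χ : G → ℂ) 1) =
      (χ : G → ℂ) 1 * (χ : G → ℂ) g := by
    intro χ
    rw [Helper25.irr_one_eq_degree, Complex.conj_natCast, mul_comm]
  rw [Finset.sum_congr rfl (fun χ _ => h2 χ)] at h
  rw [h]
  by_cases hg : g = 1
  · subst hg
    rw [if_pos (IsConj.refl 1), if_pos rfl,
      Subgroup.centralizer_eq_top_iff_subset.mpr (by simp), Subgroup.card_top]
  · rw [if_neg hg, if_neg]
    intro hc
    exact hg (isConj_one_left.mp hc)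

theorem sum_deg_sq_gen {G : Type*} [Group G] [Fintype G] [Fintype (IrrCharacter G)] :
    ∑ χ : IrrCharacter G, (charDegree (χ : G → ℂ)) ^ 2 = Nat.card G := by
  have h := reg_sum (G := G) 1
  rw [if_pos rfl] at h
  have h2 : ∀ χ : IrrCharacter G, (χ : G → ℂ) 1 * (χ : G → ℂ) 1 =
      ((charDegree (χ : G → ℂ) ^ 2 : ℕ) : ℂ) := by
    intro χ
    rw [Helper25.irr_one_eq_degree]
    push_cast
    ring
  rw [Finset.sum_congr rfl (fun χ _ => h2 χ)] at h
  exact_mod_cast h

end RegSum

variable {F : Type*} [Field F] [Fintype F] [DecidableEq F]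

/-- restriction of a function on `GL₂` to `SL₂` -/
def res (χ : GL (Fin 2) F → ℂ) : Matrix.SpecialLinearGroup (Fin 2) F → ℂ :=
  fun s => χ (Matrix.SpecialLinearGroup.toGL s)

theorem res_apply (χ : GL (Fin 2) F → ℂ) (s : Matrix.SpecialLinearGroup (Fin 2) F) :
    res χ s = χ (Matrix.SpecialLinearGroup.toGL s) := rfl

theorem res_isCharacter {χ : GL (Fin 2) F → ℂ} (hχ : IsCharacter (GL (Fin 2) F) χ) :
    IsCharacter (Matrix.SpecialLinearGroup (Fin 2) F) (res χ) :=
  Helper2.isCharacter_comp Matrix.SpecialLinearGroup.toGL hχ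

theorem res_one (χ : GL (Fin 2) F → ℂ) : res χ 1 = χ 1 := by
  unfold res
  rw [map_one]

/-- every irreducible character of `SL₂` lies under an irreducible character of `GL₂` -/
theorem exists_above (ψ : IrrCharacter (Matrix.SpecialLinearGroup (Fin 2) F)) :
    ∃ χ : IrrCharacter (GL (Fin 2) F),
      classInner (res (χ : GL (Fin 2) F → ℂ))
        (ψ : Matrix.SpecialLinearGroup (Fin 2) F → ℂ) ≠ 0 := by
  classical
  by_contra hno
  push Not at hno
  have h0 : ∑ χ : IrrCharacter (GL (Fin 2) F), (χ : GL (Fin 2) F → ℂ) 1 *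
      classInner (res (χ : GL (Fin 2) F → ℂ))
        (ψ : Matrix.SpecialLinearGroup (Fin 2) F → ℂ) = 0 :=
    Finset.sum_eq_zero (fun χ _ => by rw [hno χ, mul_zero])
  have h1 : ∑ χ : IrrCharacter (GL (Fin 2) F), (χ : GL (Fin 2) F → ℂ) 1 *
      classInner (res (χ : GL (Fin 2) F → ℂ))
        (ψ : Matrix.SpecialLinearGroup (Fin 2) F → ℂ) =
      (Nat.card (Matrix.SpecialLinearGroup (Fin 2) F) : ℂ)⁻¹ *
        ((Nat.card (GL (Fin 2) F) : ℂ) *
          conj ((ψ : Matrix.SpecialLinearGroup (Fin 2) F → ℂ) 1)) := by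
    unfold classInner
    have e1 : ∀ χ : IrrCharacter (GL (Fin 2) F), (χ : GL (Fin 2) F → ℂ) 1 *
        ((Nat.card (Matrix.SpecialLinearGroup (Fin 2) F) : ℂ)⁻¹ *
          ∑ s : Matrix.SpecialLinearGroup (Fin 2) F, res (χ : GL (Fin 2) F → ℂ) s *
            conj ((ψ : Matrix.SpecialLinearGroup (Fin 2) F → ℂ) s)) =
        ∑ s : Matrix.SpecialLinearGroup (Fin 2) F,
          (Nat.card (Matrix.SpecialLinearGroup (Fin 2) F) : ℂ)⁻¹ *
            (conj ((ψ : Matrix.SpecialLinearGroup (Fin 2) F → ℂ) s) *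
              ((χ : GL (Fin 2) F → ℂ) 1 *
                (χ : GL (Fin 2) F → ℂ) (Matrix.SpecialLinearGroup.toGL s))) := by
      intro χ
      rw [Finset.mul_sum, Finset.mul_sum]
      apply Finset.sum_congr rfl
      intro s _
      rw [res_apply]
      ring
    rw [Finset.sum_congr rfl (fun χ _ => e1 χ), Finset.sum_comm]
    have e2 : ∀ s : Matrix.SpecialLinearGroup (Fin 2) F,
        ∑ χ : IrrCharacter (GL (Fin 2) F),
          (Nat.card (Matrix.SpecialLinearGroup (Fin 2) F) : ℂ)⁻¹ *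
            (conj ((ψ : Matrix.SpecialLinearGroup (Fin 2) F → ℂ) s) *
              ((χ : GL (Fin 2) F → ℂ) 1 *
                (χ : GL (Fin 2) F → ℂ) (Matrix.SpecialLinearGroup.toGL s))) =
        (Nat.card (Matrix.SpecialLinearGroup (Fin 2) F) : ℂ)⁻¹ *
            (conj ((ψ : Matrix.SpecialLinearGroup (Fin 2) F → ℂ) s) *
              (if s = 1 then (Nat.card (GL (Fin 2) F) : ℂ) else 0)) := by
      intro s
      rw [← Finset.mul_sum, ← Finset.mul_sum, reg_sum]
      congr 3
      rw [eq_iff_iff]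
      exact map_eq_one_iff _ Matrix.SpecialLinearGroup.toGL_injective
    rw [Finset.sum_congr rfl (fun s _ => e2 s), Finset.sum_eq_single 1]
    · rw [if_pos rfl]
      ring
    · intro s _ hs
      rw [if_neg hs, mul_zero, mul_zero]
    · intro h
      exact absurd (Finset.mem_univ _) h
  rw [h0] at h1
  have hS : (Nat.card (Matrix.SpecialLinearGroup (Fin 2) F) : ℂ) ≠ 0 :=
    Helper2.natCard_ne_zero_complex _
  have hG : (Nat.card (GL (Fin 2) F) : ℂ) ≠ 0 := Helper2.natCard_ne_zero_complex _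
  have hψ1 := Helper25.irr_one_ne_zero ψ
  have : conj ((ψ : Matrix.SpecialLinearGroup (Fin 2) F → ℂ) 1) ≠ 0 := by
    intro h
    apply hψ1
    have := congrArg conj h
    simpa using this
  exact (mul_ne_zero (inv_ne_zero hS) (mul_ne_zero hG this)) h1.symm

theorem range_normal :
    ((Matrix.SpecialLinearGroup.toGL :
      Matrix.SpecialLinearGroup (Fin 2) F →* GL (Fin 2) F).range).Normal := by
  constructor
  intro n hn g
  obtain ⟨s, rfl⟩ := hn
  refine ⟨⟨((g * Matrix.SpecialLinearGroup.toGL s * g⁻¹ : GL (Fin 2) F) :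
    Matrix (Fin 2) (Fin 2) F), ?_⟩, Units.ext rfl⟩
  rw [Units.val_mul, Units.val_mul, Matrix.det_units_conj]
  exact s.2

/-- Clifford: the irreducible constituents of a restriction to `SL₂` have the same degree -/
theorem same_degree (χ : IrrCharacter (GL (Fin 2) F))
    (ψ ξ : IrrCharacter (Matrix.SpecialLinearGroup (Fin 2) F))
    (hψ : classInner (res (χ : GL (Fin 2) F → ℂ))
      (ψ : Matrix.SpecialLinearGroup (Fin 2) F → ℂ) ≠ 0)
    (hξ : classInner (res (χ : GL (Fin 2) F → ℂ))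
      (ξ : Matrix.SpecialLinearGroup (Fin 2) F → ℂ) ≠ 0) :
    (ξ : Matrix.SpecialLinearGroup (Fin 2) F → ℂ) 1 =
      (ψ : Matrix.SpecialLinearGroup (Fin 2) F → ℂ) 1 := by
  classical
  haveI := range_normal (F := F)
  obtain ⟨N, hN⟩ : ∃ N : Subgroup (GL (Fin 2) F), N = (Matrix.SpecialLinearGroup.toGL :
      Matrix.SpecialLinearGroup (Fin 2) F →* GL (Fin 2) F).range := ⟨_, rfl⟩
  haveI : N.Normal := by rw [hN]; infer_instance
  haveI : Fintype N := Fintype.ofFinite _
  obtain ⟨e, he⟩ : ∃ e : Matrix.SpecialLinearGroup (Fin 2) F ≃* N,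
      ∀ s, ((e s : N) : GL (Fin 2) F) = Matrix.SpecialLinearGroup.toGL s := by
    subst hN
    exact ⟨MonoidHom.ofInjective Matrix.SpecialLinearGroup.toGL_injective, fun s => rfl⟩
  have hψ' : IsIrrCharacter N (fun n =>
      (ψ : Matrix.SpecialLinearGroup (Fin 2) F → ℂ) (e.symm n)) :=
    Helper2.isIrrCharacter_comp_of_surjective e.symm.toMonoidHom e.symm.surjective ψ.2
  have hξ' : IsIrrCharacter N (fun n =>
      (ξ : Matrix.SpecialLinearGroup (Fin 2) F → ℂ) (e.symm n)) :=
    Helper2.isIrrCharacter_comp_of_surjective e.symm.toMonoidHom e.symm.surjective ξ.2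
  have tr : ∀ φ : Matrix.SpecialLinearGroup (Fin 2) F → ℂ,
      classInner (fun n : N => (χ : GL (Fin 2) F → ℂ) n) (fun n => φ (e.symm n)) =
        classInner (res (χ : GL (Fin 2) F → ℂ)) φ := by
    intro φ
    have := Helper24.classInner_equiv' (e : Matrix.SpecialLinearGroup (Fin 2) F ≃ N)
      (fun n : N => (χ : GL (Fin 2) F → ℂ) n) (fun n => φ (e.symm n))
    rw [← this]
    congr 1
    · funext s
      show (χ : GL (Fin 2) F → ℂ) ((e s : N) : GL (Fin 2) F) = _
      rw [he s]
      rfl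
    · funext s
      show φ (e.symm (e s)) = φ s
      rw [MulEquiv.symm_apply_apply]
  obtain ⟨g, hg⟩ := Helper24.clifford_conj N (χ : GL (Fin 2) F → ℂ) χ.2 _ hψ'
    (by rw [tr]; exact hψ) ⟨_, hξ'⟩ (by rw [tr]; exact hξ)
  have h1 := congrFun hg 1
  rw [Helper2.conjChar_apply] at h1
  have e1 : (⟨g * ((1 : N) : GL (Fin 2) F) * g⁻¹, ‹N.Normal›.conj_mem (1 : N) (1 : N).2 g⟩ : N) = 1 := by
    apply Subtype.ext
    simp
  simp only [e1, map_one] at h1
  exact h1

/-- an irreducible character of `SL₂` and an irreducible character of `GL₂` above it -/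
theorem above (ψ : IrrCharacter (Matrix.SpecialLinearGroup (Fin 2) F)) :
    ∃ χ : IrrCharacter (GL (Fin 2) F), ∃ k : ℕ, 0 < k ∧
      (χ : GL (Fin 2) F → ℂ) 1 = (k : ℂ) * (ψ : Matrix.SpecialLinearGroup (Fin 2) F → ℂ) 1 ∧
      (k = 1 → res (χ : GL (Fin 2) F → ℂ) = (ψ : Matrix.SpecialLinearGroup (Fin 2) F → ℂ)) := by
  classical
  obtain ⟨χ, hχ⟩ := exists_above ψ
  have hchar := res_isCharacter (Helper2.isCharacter_of_isIrrCharacter χ.2)
  have hm : ∀ ξ : IrrCharacter (Matrix.SpecialLinearGroup (Fin 2) F), ∃ m : ℕ,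
      classInner (res (χ : GL (Fin 2) F → ℂ))
        (ξ : Matrix.SpecialLinearGroup (Fin 2) F → ℂ) = m :=
    fun ξ => Helper2.classInner_char_nat hchar (Helper2.isCharacter_of_isIrrCharacter ξ.2)
  choose m hm using hm
  have hdec := Helper2.classFun_eq_sum_classInner (Helper2.isClassFunction_of_isCharacter hchar)
  have hmψ : m ψ ≠ 0 := by
    intro h
    apply hχ
    rw [hm ψ, h]
    simp
  refine ⟨χ, ∑ ξ, m ξ, ?_, ?_, ?_⟩
  · exact lt_of_lt_of_le (Nat.pos_of_ne_zero hmψ)
      (Finset.single_le_sum (f := m) (fun _ _ => Nat.zero_le _) (Finset.mem_univ ψ))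
  · have h1 := congrFun hdec 1
    rw [res_one] at h1
    rw [h1]
    simp only [Finset.sum_apply, Pi.smul_apply, smul_eq_mul]
    push_cast
    rw [Finset.sum_mul]
    apply Finset.sum_congr rfl
    intro ξ _
    rw [hm ξ]
    by_cases h0 : m ξ = 0
    · rw [h0]
      simp
    · rw [same_degree χ ψ ξ hχ (by rw [hm ξ]; exact_mod_cast h0)]
  · intro hk
    have hle : m ψ ≤ 1 := by
      rw [← hk]
      exact Finset.single_le_sum (f := m) (fun _ _ => Nat.zero_le _) (Finset.mem_univ ψ)
    have hψ1 : m ψ = 1 := by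
      have := Nat.pos_of_ne_zero hmψ
      omega
    have hothers : ∀ ξ : IrrCharacter (Matrix.SpecialLinearGroup (Fin 2) F), ξ ≠ ψ → m ξ = 0 := by
      intro ξ hne
      by_contra hcon
      have h2 : m ψ + m ξ ≤ 1 := by
        rw [← hk]
        have := Finset.sum_le_sum_of_subset_of_nonneg (f := m)
          (Finset.subset_univ ({ψ, ξ} : Finset (IrrCharacter (Matrix.SpecialLinearGroup (Fin 2) F))))
          (fun _ _ _ => Nat.zero_le _)
        rw [Finset.sum_pair hne.symm] at this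
        exact this
      have := Nat.pos_of_ne_zero hcon
      omega
    rw [hdec, Finset.sum_eq_single ψ]
    · rw [hm ψ, hψ1]
      simp
    · intro ξ _ hne
      rw [hm ξ, hothers ξ hne]
      simp
    · intro h
      exact absurd (Finset.mem_univ ψ) h

end Cfsg.Agent.Helper14.GL2
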