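import Mathlib
import Cfsg.Agent.Helper14.SL2Res
import Cfsg.Agent.S0242
import Cfsg.Agent.S2302

set_option autoImplicit false
set_option linter.unusedSectionVars false

/-!
# Twisting characters of `GL₂(F)` by `λ ∘ det` and restriction to `SL₂(F)`

* `inner_res`: `⟨χ|SL₂, χ'|SL₂⟩ = Σ_λ ⟨(λ∘det)·χ, χ'⟩`;
* `inner_res_irr`: for irreducible `χ, χ'` this is `#{λ | (λ∘det)·χ = χ'}`;
* `tw_stab_sq`: `(λ∘det)·χ = χ` implies `λ(a²) = 1`;
* characteristic 2: `res_irr_even`, `card_deg_even`.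
-/

namespace Cfsg.Agent.Helper14.GL2

open Cfsg
open scoped ComplexConjugate MatrixGroups

variable {F : Type*} [Field F] [Fintype F] [DecidableEq F]

theorem mulchar_norm_one (α : MulChar F ℂ) (a : F) (ha : a ≠ 0) : ‖α a‖ = 1 := by
  have h : α a ^ (Fintype.card F - 1) = 1 := by
    rw [← map_pow, FiniteField.pow_card_sub_one_eq_one a ha, map_one]
  have hq := Fintype.one_lt_card (α := F)
  exact Complex.norm_eq_one_of_pow_eq_one h (by omega)

theorem lin_mul_conj (l : MulChar F ℂ) (g : GL (Fin 2) F) : lin l g * conj (lin l g) = 1 := by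
  rw [Complex.mul_conj, Complex.normSq_eq_norm_sq]
  show ((‖l ((g : Matrix (Fin 2) (Fin 2) F).det)‖ ^ 2 : ℝ) : ℂ) = 1
  rw [mulchar_norm_one l _ (gl_det_ne_zero g)]
  simp

/-- twist of a function on `GL₂` by `λ ∘ det` -/
noncomputable def tw (χ : GL (Fin 2) F → ℂ) (l : MulChar F ℂ) : GL (Fin 2) F → ℂ :=
  fun g => lin l g * χ g

theorem tw_apply (χ : GL (Fin 2) F → ℂ) (l : MulChar F ℂ) (g : GL (Fin 2) F) :
    tw χ l g = lin l g * χ g := rfl

theorem tw_irr (χ : GL (Fin 2) F → ℂ) (hχ : IsIrrCharacter (GL (Fin 2) F) χ) (l : MulChar F ℂ) :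
    IsIrrCharacter (GL (Fin 2) F) (tw χ l) := by
  have hchar : IsCharacter (GL (Fin 2) F) (tw χ l) :=
    Helper2.isCharacter_mul (Helper2.isCharacter_of_isIrrCharacter (lin_irr l))
      (Helper2.isCharacter_of_isIrrCharacter hχ)
  apply Helper2.isIrrCharacter_of_classInner_self hchar
  have h1 := Helper2.classInner_irr_irr (⟨χ, hχ⟩ : IrrCharacter (GL (Fin 2) F)) ⟨χ, hχ⟩
  rw [if_pos rfl] at h1
  rw [← h1]
  unfold classInner
  congr 1
  apply Finset.sum_congr rfl
  intro g _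
  rw [tw_apply, map_mul]
  have := lin_mul_conj l g
  show lin l g * χ g * (conj (lin l g) * conj (χ g)) = χ g * conj (χ g)
  linear_combination (χ g * conj (χ g)) * this

theorem lin_mul (l m : MulChar F ℂ) (g : GL (Fin 2) F) : lin (l * m) g = lin l g * lin m g := by
  show (l * m) _ = l _ * m _
  rw [MulChar.mul_apply]

theorem lin_one' (g : GL (Fin 2) F) : lin (1 : MulChar F ℂ) g = 1 := by
  show (1 : MulChar F ℂ) _ = 1
  exact MulChar.one_apply (isUnit_iff_ne_zero.mpr (gl_det_ne_zero g))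

theorem tw_tw (χ : GL (Fin 2) F → ℂ) (l m : MulChar F ℂ) : tw (tw χ l) m = tw χ (l * m) := by
  funext g
  rw [tw_apply, tw_apply, tw_apply, lin_mul]
  ring

theorem tw_one (χ : GL (Fin 2) F → ℂ) : tw χ 1 = χ := by
  funext g
  rw [tw_apply, lin_one', one_mul]

theorem res_tw (χ : GL (Fin 2) F → ℂ) (l : MulChar F ℂ) : res (tw χ l) = res χ := by
  funext s
  rw [res_apply, res_apply, tw_apply]
  have : lin l (Matrix.SpecialLinearGroup.toGL s) = 1 := by
    show l ((s : Matrix (Fin 2) (Fin 2) F).det) = 1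
    rw [s.2, map_one]
  rw [this, one_mul]

theorem card_G_eq : Nat.card (GL (Fin 2) F) =
    (Fintype.card F - 1) * Nat.card (Matrix.SpecialLinearGroup (Fin 2) F) := by
  rw [Cfsg.Agent.S0242.result rfl 2 (by norm_num), Matrix.card_GL_field]

theorem sum_sl [Fintype (MulChar F ℂ)] (f : GL (Fin 2) F → ℂ) :
    ∑ s : Matrix.SpecialLinearGroup (Fin 2) F, f (Matrix.SpecialLinearGroup.toGL s) =
      ((Fintype.card F : ℂ) - 1)⁻¹ * ∑ l : MulChar F ℂ, ∑ g : GL (Fin 2) F, lin l g * f g := by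
  classical
  rw [Finset.sum_comm]
  have h1 : ∀ g : GL (Fin 2) F, ∑ l : MulChar F ℂ, lin l g * f g =
      if Matrix.GeneralLinearGroup.det g = 1 then ((Fintype.card F : ℂ) - 1) * f g else 0 := by
    intro g
    rw [← Finset.sum_mul]
    have h2 : ∀ l : MulChar F ℂ, lin l g = l ((Matrix.GeneralLinearGroup.det g : Fˣ) : F) := by
      intro l
      rfl
    rw [Finset.sum_congr rfl (fun l _ => h2 l), mulchar_col]
    split_ifs <;> simp
  rw [Finset.sum_congr rfl (fun g _ => h1 g), ← Finset.sum_filter, ← Finset.mul_sum, ← mul_assoc,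
    inv_mul_cancel₀ q_sub_one_ne, one_mul]
  have h3 : (Finset.univ.filter (fun g : GL (Fin 2) F => Matrix.GeneralLinearGroup.det g = 1)) =
      Finset.univ.image (Matrix.SpecialLinearGroup.toGL :
        Matrix.SpecialLinearGroup (Fin 2) F → GL (Fin 2) F) := by
    ext g
    simp only [Finset.mem_filter, Finset.mem_univ, true_and, Finset.mem_image]
    constructor
    · intro hg
      have hdet : (g : Matrix (Fin 2) (Fin 2) F).det = 1 := by
        have := congrArg (fun u : Fˣ => (u : F)) hg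
        simpa using this
      exact ⟨⟨(g : Matrix (Fin 2) (Fin 2) F), hdet⟩, Units.ext rfl⟩
    · rintro ⟨s, rfl⟩
      exact Matrix.SpecialLinearGroup.coeToGL_det s
  rw [h3, Finset.sum_image (fun a _ b _ h => Matrix.SpecialLinearGroup.toGL_injective h)]

/-- the inner product of two restrictions to `SL₂` -/
theorem inner_res [Fintype (MulChar F ℂ)] (χ χ' : GL (Fin 2) F → ℂ) :
    classInner (res χ) (res χ') = ∑ l : MulChar F ℂ, classInner (tw χ l) χ' := by
  unfold classInner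
  have h := sum_sl (fun g => χ g * conj (χ' g))
  have e1 : ∑ s : Matrix.SpecialLinearGroup (Fin 2) F, res χ s * conj (res χ' s) =
      ∑ s : Matrix.SpecialLinearGroup (Fin 2) F, (fun g => χ g * conj (χ' g))
        (Matrix.SpecialLinearGroup.toGL s) := rfl
  rw [e1, h, ← Finset.mul_sum]
  have e2 : ∀ l : MulChar F ℂ, ∑ g : GL (Fin 2) F, tw χ l g * conj (χ' g) =
      ∑ g : GL (Fin 2) F, lin l g * (χ g * conj (χ' g)) := by
    intro l
    apply Finset.sum_congr rfl
    intro g _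
    rw [tw_apply]
    ring
  rw [Finset.sum_congr rfl (fun l _ => e2 l), card_G_eq]
  have hq := q_sub_one_ne (F := F)
  have hS : (Nat.card (Matrix.SpecialLinearGroup (Fin 2) F) : ℂ) ≠ 0 :=
    Helper2.natCard_ne_zero_complex _
  push_cast [Nat.cast_sub (one_lt_q (F := F)).le]
  field_simp

open Classical in
theorem inner_res_irr (χ χ' : IrrCharacter (GL (Fin 2) F)) :
    classInner (res (χ : GL (Fin 2) F → ℂ)) (res (χ' : GL (Fin 2) F → ℂ)) =
      (Nat.card {l : MulChar F ℂ // tw (χ : GL (Fin 2) F → ℂ) l = (χ' : GL (Fin 2) F → ℂ)} : ℂ) := by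
  haveI : Fintype (MulChar F ℂ) := Fintype.ofFinite _
  rw [inner_res]
  have h1 : ∀ l : MulChar F ℂ, classInner (tw (χ : GL (Fin 2) F → ℂ) l) (χ' : GL (Fin 2) F → ℂ) =
      if tw (χ : GL (Fin 2) F → ℂ) l = (χ' : GL (Fin 2) F → ℂ) then 1 else 0 := by
    intro l
    have := Helper2.classInner_irr_irr (⟨tw (χ : GL (Fin 2) F → ℂ) l, tw_irr _ χ.2 l⟩ :
      IrrCharacter (GL (Fin 2) F)) χ'
    rw [this]
    by_cases h : tw (χ : GL (Fin 2) F → ℂ) l = (χ' : GL (Fin 2) F → ℂ)
    · rw [if_pos h, if_pos (Subtype.ext h)]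
    · rw [if_neg h, if_neg (fun h' => h (congrArg Subtype.val h'))]
  rw [Finset.sum_congr rfl (fun l _ => h1 l), Helper2.sum_ite_const_eq_card, mul_one]

/-- a central element acts on an irreducible character by a scalar of norm one
(after helper2's `irr_central_mul`) -/
theorem central_mul_norm {G : Type*} [Group G] [Finite G] (χ : IrrCharacter G) (z : G)
    (hz : z ∈ Subgroup.center G) : (χ : G → ℂ) z ≠ 0 := by
  obtain ⟨n, ρ, hρ, hχ⟩ := χ.2
  haveI := hρ
  have hcomm : ∀ g, ρ z ∘ₗ ρ g = ρ g ∘ₗ ρ z := by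
    intro g
    rw [← Module.End.mul_eq_comp, ← Module.End.mul_eq_comp, ← map_mul, ← map_mul,
      (Subgroup.mem_center_iff.mp hz g)]
  obtain ⟨c, hc⟩ := Helper1.exists_scalar_of_commute ρ (ρ z) hcomm
  have hmul : ∀ g : G, (χ : G → ℂ) (z * g) = c * (χ : G → ℂ) g := by
    intro g
    rw [← hχ]
    simp only [Representation.character, map_mul, hc]
    rw [Module.End.mul_eq_comp, LinearMap.smul_comp, LinearMap.id_comp, map_smul, smul_eq_mul]
  have hpow : ∀ k : ℕ, (χ : G → ℂ) (z ^ k) = c ^ k * (χ : G → ℂ) 1 := by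
    intro k
    induction k with
    | zero => simp
    | succ k ih =>
      rw [pow_succ', hmul, ih, pow_succ']
      ring
  have h1 := hpow (orderOf z)
  rw [pow_orderOf_eq_one] at h1
  have h0 := Helper25.irr_one_ne_zero χ
  have hc0 : c ≠ 0 := by
    intro hc0
    rw [hc0, zero_pow (orderOf_pos z).ne', zero_mul] at h1
    exact h0 h1
  have h2 := hmul 1
  rw [mul_one] at h2
  rw [h2]
  exact mul_ne_zero hc0 h0

theorem scal_mem_center (a : Fˣ) : (scal a : GL (Fin 2) F) ∈ Subgroup.center (GL (Fin 2) F) := by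
  rw [Subgroup.mem_center_iff]
  intro g
  exact scal_comm a g

theorem tw_stab_sq (χ : IrrCharacter (GL (Fin 2) F)) (l : MulChar F ℂ)
    (h : tw (χ : GL (Fin 2) F → ℂ) l = (χ : GL (Fin 2) F → ℂ)) (a : Fˣ) : l ((a : F) ^ 2) = 1 := by
  have h1 := congrFun h (scal a)
  rw [tw_apply] at h1
  have h2 := central_mul_norm χ (scal a) (scal_mem_center a)
  have h3 : lin l (scal a) = 1 := by
    have : (lin l (scal a) - 1) * (χ : GL (Fin 2) F → ℂ) (scal a) = 0 := by linear_combination h1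
    rcases mul_eq_zero.mp this with h | h
    · linear_combination h
    · exact absurd h h2
  rw [lin_apply, scal_coe] at h3
  simp only [Matrix.of_apply, Matrix.cons_val', Matrix.cons_val_zero, Matrix.cons_val_one,
    Matrix.cons_val_fin_one, mul_zero, sub_zero] at h3
  rw [sq]
  exact h3

/-! ### Characteristic 2 -/

section Even
variable [CharP F 2]

theorem stab_trivial_even (χ : IrrCharacter (GL (Fin 2) F)) (l : MulChar F ℂ)
    (h : tw (χ : GL (Fin 2) F → ℂ) l = (χ : GL (Fin 2) F → ℂ)) : l = 1 := by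
  apply MulChar.ext
  intro a
  obtain ⟨b, hb⟩ := Cfsg.Agent.S2302.sq_surj (a : F)
  have hb0 : b ≠ 0 := by
    intro h0
    rw [h0] at hb
    simp at hb
    exact a.ne_zero hb.symm
  have := tw_stab_sq χ l h (Units.mk0 b hb0)
  rw [Units.val_mk0, hb] at this
  rw [this, MulChar.one_apply a.isUnit]

theorem res_irr_even (χ : IrrCharacter (GL (Fin 2) F)) :
    IsIrrCharacter (Matrix.SpecialLinearGroup (Fin 2) F) (res (χ : GL (Fin 2) F → ℂ)) := by
  classical
  apply Helper2.isIrrCharacter_of_classInner_self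
    (res_isCharacter (Helper2.isCharacter_of_isIrrCharacter χ.2))
  rw [inner_res_irr]
  have : Nat.card {l : MulChar F ℂ // tw (χ : GL (Fin 2) F → ℂ) l = (χ : GL (Fin 2) F → ℂ)} = 1 := by
    rw [Nat.card_eq_one_iff_unique]
    refine ⟨⟨fun a b => Subtype.ext ?_⟩, ⟨⟨1, tw_one _⟩⟩⟩
    rw [stab_trivial_even χ a.1 a.2, stab_trivial_even χ b.1 b.2]
  rw [this, Nat.cast_one]

theorem exists_lift_even (ψ : IrrCharacter (Matrix.SpecialLinearGroup (Fin 2) F)) :
    ∃ χ : IrrCharacter (GL (Fin 2) F),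
      res (χ : GL (Fin 2) F → ℂ) = (ψ : Matrix.SpecialLinearGroup (Fin 2) F → ℂ) := by
  obtain ⟨χ, hχ⟩ := exists_above ψ
  refine ⟨χ, ?_⟩
  have := Helper2.classInner_irr_irr (⟨res (χ : GL (Fin 2) F → ℂ), res_irr_even χ⟩ :
    IrrCharacter (Matrix.SpecialLinearGroup (Fin 2) F)) ψ
  by_contra hne
  rw [if_neg (fun h => hne (congrArg Subtype.val h))] at this
  exact hχ this

/-- degree-`d` characters of `GL₂(F)` and `SL₂(F)` in characteristic 2 -/
theorem card_deg_even (d : ℂ) :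
    Nat.card {χ : IrrCharacter (GL (Fin 2) F) // (χ : GL (Fin 2) F → ℂ) 1 = d} =
      Nat.card {ψ : IrrCharacter (Matrix.SpecialLinearGroup (Fin 2) F) //
        (ψ : Matrix.SpecialLinearGroup (Fin 2) F → ℂ) 1 = d} * (Fintype.card F - 1) := by
  classical
  haveI : Fintype (MulChar F ℂ) := Fintype.ofFinite _
  have hT : Nat.card (MulChar F ℂ) = Fintype.card F - 1 := by
    rw [Nat.card_eq_fintype_card]
    exact card_mulChar
  rw [← hT, ← Nat.card_prod]
  symm
  choose lift hlift using exists_lift_even (F := F)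
  have hdeg : ∀ (ψ : {ψ : IrrCharacter (Matrix.SpecialLinearGroup (Fin 2) F) //
      (ψ : Matrix.SpecialLinearGroup (Fin 2) F → ℂ) 1 = d}) (l : MulChar F ℂ),
      tw (lift ψ.1 : GL (Fin 2) F → ℂ) l 1 = d := by
    intro ψ l
    rw [tw_apply, lin_one, one_mul]
    have h1 := congrFun (hlift ψ.1) 1
    rw [res_one] at h1
    rw [h1]
    exact ψ.2
  apply Nat.card_eq_of_bijective (fun p : {ψ : IrrCharacter (Matrix.SpecialLinearGroup (Fin 2) F) //
      (ψ : Matrix.SpecialLinearGroup (Fin 2) F → ℂ) 1 = d} × MulChar F ℂ =>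
    (⟨⟨tw (lift p.1.1 : GL (Fin 2) F → ℂ) p.2, tw_irr _ (lift p.1.1).2 p.2⟩, hdeg p.1 p.2⟩ :
      {χ : IrrCharacter (GL (Fin 2) F) // (χ : GL (Fin 2) F → ℂ) 1 = d}))
  constructor
  · rintro ⟨ψ, l⟩ ⟨ψ', l'⟩ h
    have h1 : tw (lift ψ.1 : GL (Fin 2) F → ℂ) l = tw (lift ψ'.1 : GL (Fin 2) F → ℂ) l' :=
      congrArg (fun x => (x.1 : GL (Fin 2) F → ℂ)) h
    have h2 := congrArg res h1
    rw [res_tw, res_tw, hlift, hlift] at h2
    have h3 : ψ = ψ' := Subtype.ext (Subtype.ext h2)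
    subst h3
    have h4 := congrArg (fun f => tw f l'⁻¹) h1
    simp only [tw_tw, mul_inv_cancel, tw_one] at h4
    have h5 := stab_trivial_even (lift ψ.1) _ h4
    rw [mul_inv_eq_one] at h5
    rw [h5]
  · rintro ⟨χ, hχ⟩
    have hψd : (res (χ : GL (Fin 2) F → ℂ)) 1 = d := by rw [res_one]; exact hχ
    obtain ⟨ψ, hψ⟩ : ∃ ψ : {ψ : IrrCharacter (Matrix.SpecialLinearGroup (Fin 2) F) //
        (ψ : Matrix.SpecialLinearGroup (Fin 2) F → ℂ) 1 = d},
        (ψ.1 : Matrix.SpecialLinearGroup (Fin 2) F → ℂ) = res (χ : GL (Fin 2) F → ℂ) :=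
      ⟨⟨⟨res (χ : GL (Fin 2) F → ℂ), res_irr_even χ⟩, hψd⟩, rfl⟩
    have h1 := inner_res_irr (lift ψ.1) χ
    rw [hlift, hψ] at h1
    have h2 := Helper2.classInner_irr_irr (⟨res (χ : GL (Fin 2) F → ℂ), res_irr_even χ⟩ :
      IrrCharacter (Matrix.SpecialLinearGroup (Fin 2) F)) ⟨res (χ : GL (Fin 2) F → ℂ), res_irr_even χ⟩
    rw [if_pos rfl] at h2
    rw [h2] at h1
    have h3 : Nat.card {l : MulChar F ℂ // tw (lift ψ.1 : GL (Fin 2) F → ℂ) l =
        (χ : GL (Fin 2) F → ℂ)} ≠ 0 := by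
      intro h0
      rw [h0] at h1
      simp at h1
    obtain ⟨⟨l, hl⟩⟩ := (Nat.card_ne_zero.mp h3).1
    exact ⟨(ψ, l), Subtype.ext (Subtype.ext hl)⟩

end Even

end Cfsg.Agent.Helper14.GL2
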