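import Mathlib
import Cfsg.Agent.Helper14.SL2Twist

set_option autoImplicit false
set_option linter.unusedSectionVars false

/-!
# Restriction from `GL₂(F)` to `SL₂(F)` in odd characteristic

* `qc`: the quadratic character with complex values; `sq_stab`;
* `stab_card`: the stabiliser of `χ` under twisting has order 1 or 2;
* `clifford_sl`, `conj_sq`: Clifford conjugacy of the constituents of a restriction;
* `res_struct`: the structure of `χ|SL₂`;
* `sum_above`, `fixed_count` (Brauer), `card_irr_sl_odd`: `SL₂(q)` has `q + 4` irreducible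
  characters for odd `q`.
-/

namespace Cfsg.Agent.Helper14.GL2

open Cfsg
open scoped ComplexConjugate MatrixGroups

variable {F : Type*} [Field F] [Fintype F] [DecidableEq F]

/-- the quadratic character with complex values -/
noncomputable def qc : MulChar F ℂ := (quadraticChar F).ringHomComp (Int.castRingHom ℂ)

theorem qc_apply (a : F) : (qc : MulChar F ℂ) a = ((quadraticChar F a : ℤ) : ℂ) := rfl

theorem qc_sq (a : Fˣ) : (qc : MulChar F ℂ) ((a : F) ^ 2) = 1 := by
  rw [qc_apply, quadraticChar_sq_one' a.ne_zero]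
  simp

theorem qc_ne_one (hF : ringChar F ≠ 2) : (qc : MulChar F ℂ) ≠ 1 := by
  obtain ⟨a, ha⟩ := quadraticChar_exists_neg_one' hF
  intro h
  have h1 := congrArg (fun l : MulChar F ℂ => l (a : F)) h
  simp only [qc_apply, ha, MulChar.one_apply a.isUnit] at h1
  norm_num at h1

theorem sq_stab (hF : ringChar F ≠ 2) (l : MulChar F ℂ) (h : ∀ a : Fˣ, l ((a : F) ^ 2) = 1) :
    l = 1 ∨ l = qc := by
  obtain ⟨n, hn⟩ := quadraticChar_exists_neg_one' hF
  have hln : l (n : F) = 1 ∨ l (n : F) = -1 := by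
    have := h n
    rw [map_pow] at this
    have h4 : (l (n : F) - 1) * (l (n : F) + 1) = 0 := by linear_combination this
    rcases mul_eq_zero.mp h4 with h5 | h5
    · left
      linear_combination h5
    · right
      linear_combination h5
  have key : ∀ a : Fˣ, l (a : F) = if IsSquare (a : F) then 1 else l (n : F) := by
    intro a
    split_ifs with hs
    · obtain ⟨b, hb⟩ := hs
      have hb0 : b ≠ 0 := by
        intro h0
        rw [h0, mul_zero] at hb
        exact a.ne_zero hb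
      have := h (Units.mk0 b hb0)
      rw [Units.val_mk0, sq, ← hb] at this
      exact this
    · have h1 : quadraticChar F ((a : F) * n) = 1 := by
        rw [map_mul, quadraticChar_neg_one_iff_not_isSquare.mpr hs, hn]
        norm_num
      obtain ⟨c, hc⟩ := (quadraticChar_one_iff_isSquare (mul_ne_zero a.ne_zero n.ne_zero)).mp h1
      have hc0 : c ≠ 0 := by
        intro h0
        rw [h0, mul_zero] at hc
        exact (mul_ne_zero a.ne_zero n.ne_zero) hc
      have h2 := h (Units.mk0 c hc0)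
      rw [Units.val_mk0, sq, ← hc, map_mul] at h2
      rcases hln with h3 | h3
      · rw [h3] at h2 ⊢
        linear_combination h2
      · rw [h3] at h2 ⊢
        linear_combination -h2
  rcases hln with h3 | h3
  · left
    apply MulChar.ext
    intro a
    rw [key a, h3, MulChar.one_apply a.isUnit]
    simp
  · right
    apply MulChar.ext
    intro a
    rw [key a, h3, qc_apply]
    split_ifs with hs
    · rw [(quadraticChar_one_iff_isSquare a.ne_zero).mpr hs]
      simp
    · rw [quadraticChar_neg_one_iff_not_isSquare.mpr hs]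
      simp

open Classical in
theorem stab_card (hF : ringChar F ≠ 2) (χ : IrrCharacter (GL (Fin 2) F)) :
    Nat.card {l : MulChar F ℂ // tw (χ : GL (Fin 2) F → ℂ) l = (χ : GL (Fin 2) F → ℂ)} =
      if tw (χ : GL (Fin 2) F → ℂ) qc = (χ : GL (Fin 2) F → ℂ) then 2 else 1 := by
  haveI : Fintype (MulChar F ℂ) := Fintype.ofFinite _
  rw [Nat.card_eq_fintype_card, Fintype.card_subtype]
  split_ifs with h
  · have : Finset.univ.filter (fun l : MulChar F ℂ =>
        tw (χ : GL (Fin 2) F → ℂ) l = (χ : GL (Fin 2) F → ℂ)) = {1, qc} := by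
      ext l
      simp only [Finset.mem_filter, Finset.mem_univ, true_and, Finset.mem_insert,
        Finset.mem_singleton]
      constructor
      · intro hl
        exact sq_stab hF l (tw_stab_sq χ l hl)
      · rintro (rfl | rfl)
        · exact tw_one _
        · exact h
    rw [this, Finset.card_pair (qc_ne_one hF).symm]
  · have : Finset.univ.filter (fun l : MulChar F ℂ =>
        tw (χ : GL (Fin 2) F → ℂ) l = (χ : GL (Fin 2) F → ℂ)) = {1} := by
      ext l
      simp only [Finset.mem_filter, Finset.mem_univ, true_and, Finset.mem_singleton]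
      constructor
      · intro hl
        rcases sq_stab hF l (tw_stab_sq χ l hl) with rfl | rfl
        · rfl
        · exact absurd hl h
      · rintro rfl
        exact tw_one _
    rw [this, Finset.card_singleton]

/-- Clifford: the irreducible constituents of a restriction to `SL₂` are conjugate under
`GL₂` -/
theorem clifford_sl (χ : IrrCharacter (GL (Fin 2) F))
    (ψ ξ : IrrCharacter (Matrix.SpecialLinearGroup (Fin 2) F))
    (hψ : classInner (res (χ : GL (Fin 2) F → ℂ))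
      (ψ : Matrix.SpecialLinearGroup (Fin 2) F → ℂ) ≠ 0)
    (hξ : classInner (res (χ : GL (Fin 2) F → ℂ))
      (ξ : Matrix.SpecialLinearGroup (Fin 2) F → ℂ) ≠ 0) :
    ∃ x : GL (Fin 2) F, ∀ g h : Matrix.SpecialLinearGroup (Fin 2) F,
      Matrix.SpecialLinearGroup.toGL h = x * Matrix.SpecialLinearGroup.toGL g * x⁻¹ →
      (ξ : Matrix.SpecialLinearGroup (Fin 2) F → ℂ) g =
        (ψ : Matrix.SpecialLinearGroup (Fin 2) F → ℂ) h := by
  classical
  haveI := range_normal (F := F)
  obtain ⟨N, hN⟩ : ∃ N : Subgroup (GL (Fin 2) F), N = (Matrix.SpecialLinearGroup.toGL :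
      Matrix.SpecialLinearGroup (Fin 2) F →* GL (Fin 2) F).range := ⟨_, rfl⟩
  haveI : N.Normal := by rw [hN]; infer_instance
  haveI : Fintype N := Fintype.ofFinite _
  obtain ⟨e, he⟩ : ∃ e : Matrix.SpecialLinearGroup (Fin 2) F ≃* N,
      ∀ s, ((e s : N) : GL (Fin 2) F) = Matrix.SpecialLinearGroup.toGL s := by
    subst hN
    exact ⟨MonoidHom.ofInjective Matrix.SpecialLinearGroup.toGL_injective, fun s => rfl⟩
  have hψ' : IsIrrCharacter N (fun n =>
      (ψ : Matrix.SpecialLinearGroup (Fin 2) F → ℂ) (e.symm n)) :=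
    Helper2.isIrrCharacter_comp_of_surjective e.symm.toMonoidHom e.symm.surjective ψ.2
  have hξ' : IsIrrCharacter N (fun n =>
      (ξ : Matrix.SpecialLinearGroup (Fin 2) F → ℂ) (e.symm n)) :=
    Helper2.isIrrCharacter_comp_of_surjective e.symm.toMonoidHom e.symm.surjective ξ.2
  have tr : ∀ φ : Matrix.SpecialLinearGroup (Fin 2) F → ℂ,
      classInner (fun n : N => (χ : GL (Fin 2) F → ℂ) n) (fun n => φ (e.symm n)) =
        classInner (res (χ : GL (Fin 2) F → ℂ)) φ := by
    intro φ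
    have := Helper24.classInner_equiv' (e : Matrix.SpecialLinearGroup (Fin 2) F ≃ N)
      (fun n : N => (χ : GL (Fin 2) F → ℂ) n) (fun n => φ (e.symm n))
    rw [← this]
    congr 1
    · funext s
      show (χ : GL (Fin 2) F → ℂ) ((e s : N) : GL (Fin 2) F) = _
      rw [he s]
      rfl
    · funext s
      show φ (e.symm (e s)) = φ s
      rw [MulEquiv.symm_apply_apply]
  obtain ⟨x, hx⟩ := Helper24.clifford_conj N (χ : GL (Fin 2) F → ℂ) χ.2 _ hψ'
    (by rw [tr]; exact hψ) ⟨_, hξ'⟩ (by rw [tr]; exact hξ)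
  refine ⟨x, fun g h hgh => ?_⟩
  have h1 := congrFun hx (e g)
  rw [Helper2.conjChar_apply] at h1
  have e1 : e.symm (⟨x * ((e g : N) : GL (Fin 2) F) * x⁻¹, ‹N.Normal›.conj_mem (e g) (e g).2 x⟩ : N) = h := by
    apply e.injective
    rw [MulEquiv.apply_symm_apply]
    apply Subtype.ext
    rw [he h, hgh]
    show x * ((e g : N) : GL (Fin 2) F) * x⁻¹ = _
    rw [he g]
  simp only [e1, MulEquiv.symm_apply_apply] at h1
  exact h1

/-- conjugation by an element of `GL₂` of square determinant fixes every class function of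
`SL₂` -/
theorem conj_sq (ψ : Matrix.SpecialLinearGroup (Fin 2) F → ℂ)
    (hψ : IsClassFunction (Matrix.SpecialLinearGroup (Fin 2) F) ψ) (x : GL (Fin 2) F) (c : F)
    (hc : (x : Matrix (Fin 2) (Fin 2) F).det = c ^ 2)
    (g h : Matrix.SpecialLinearGroup (Fin 2) F)
    (hgh : Matrix.SpecialLinearGroup.toGL h = x * Matrix.SpecialLinearGroup.toGL g * x⁻¹) :
    ψ h = ψ g := by
  have hc0 : c ≠ 0 := by
    intro h0
    rw [h0] at hc
    simp at hc
    exact gl_det_ne_zero x hc
  have hdet : (c⁻¹ • (x : Matrix (Fin 2) (Fin 2) F)).det = 1 := by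
    rw [Matrix.det_smul, hc, Fintype.card_fin]
    field_simp
  obtain ⟨s0, hs0val⟩ : ∃ s0 : Matrix.SpecialLinearGroup (Fin 2) F,
      (s0 : Matrix (Fin 2) (Fin 2) F) = c⁻¹ • (x : Matrix (Fin 2) (Fin 2) F) := ⟨⟨_, hdet⟩, rfl⟩
  have hs0 : Matrix.SpecialLinearGroup.toGL s0 = scal (Units.mk0 c hc0)⁻¹ * x := by
    apply Units.ext
    rw [Units.val_mul, scal_coe]
    show (s0 : Matrix (Fin 2) (Fin 2) F) = _
    rw [hs0val, Matrix.eta_fin_two (x : Matrix (Fin 2) (Fin 2) F)]
    ext i j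
    fin_cases i <;> fin_cases j <;> simp [Matrix.mul_apply, Fin.sum_univ_two]
  have hh : h = s0 * g * s0⁻¹ := by
    apply Matrix.SpecialLinearGroup.toGL_injective
    rw [map_mul, map_mul, map_inv, hs0, hgh, mul_inv_rev]
    have hz := scal_comm (F := F) (Units.mk0 c hc0)⁻¹
    obtain ⟨z, hzdef⟩ : ∃ z, z = scal (F := F) (Units.mk0 c hc0)⁻¹ := ⟨_, rfl⟩
    rw [← hzdef] at hz ⊢
    have e1 : z * x * Matrix.SpecialLinearGroup.toGL g * (x⁻¹ * z⁻¹) =
        z * (x * Matrix.SpecialLinearGroup.toGL g * x⁻¹) * z⁻¹ := by group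
    rw [e1, ← hz]
    group
  rw [hh]
  exact hψ g _

open Classical in
/-- structure of the restriction of an irreducible character to `SL₂` (odd characteristic) -/
theorem res_struct (hF : ringChar F ≠ 2) (χ : IrrCharacter (GL (Fin 2) F))
    (m : IrrCharacter (Matrix.SpecialLinearGroup (Fin 2) F) → ℕ)
    (hm : ∀ ψ : IrrCharacter (Matrix.SpecialLinearGroup (Fin 2) F),
      classInner (res (χ : GL (Fin 2) F → ℂ))
        (ψ : Matrix.SpecialLinearGroup (Fin 2) F → ℂ) = (m ψ : ℂ)) :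
    (∑ ψ, m ψ = if tw (χ : GL (Fin 2) F → ℂ) qc = (χ : GL (Fin 2) F → ℂ) then 2 else 1) ∧
    (∀ ψ : IrrCharacter (Matrix.SpecialLinearGroup (Fin 2) F), m ψ ≠ 0 → m ψ = 1 ∧
      (χ : GL (Fin 2) F → ℂ) 1 =
        ((if tw (χ : GL (Fin 2) F → ℂ) qc = (χ : GL (Fin 2) F → ℂ) then 2 else 1 : ℕ) : ℂ) *
          (ψ : Matrix.SpecialLinearGroup (Fin 2) F → ℂ) 1) := by
  obtain ⟨s, hs⟩ : ∃ s : ℕ, s = if tw (χ : GL (Fin 2) F → ℂ) qc = (χ : GL (Fin 2) F → ℂ)
      then 2 else 1 := ⟨_, rfl⟩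
  rw [← hs]
  have hs2 : s ≤ 2 := by
    rw [hs]
    split_ifs <;> omega
  have hchar := res_isCharacter (Helper2.isCharacter_of_isIrrCharacter χ.2)
  have hcl := Helper2.isClassFunction_of_isCharacter hchar
  have hpar := Helper2.classInner_eq_sum_mul hcl (res (χ : GL (Fin 2) F → ℂ))
  rw [inner_res_irr, stab_card hF χ, ← hs] at hpar
  have hsq : ∑ ψ, m ψ * m ψ = s := by
    have : ((∑ ψ, m ψ * m ψ : ℕ) : ℂ) = (s : ℂ) := by
      rw [hpar]
      push_cast
      apply Finset.sum_congr rfl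
      intro ψ _
      rw [hm ψ, Complex.conj_natCast]
    exact_mod_cast this
  have hle : ∀ ψ, m ψ ≤ 1 := by
    intro ψ
    have h1 : m ψ * m ψ ≤ s := by
      rw [← hsq]
      exact Finset.single_le_sum (f := fun ψ => m ψ * m ψ) (fun _ _ => Nat.zero_le _)
        (Finset.mem_univ ψ)
    by_contra hcon
    push Not at hcon
    nlinarith
  have hsum : ∑ ψ, m ψ = s := by
    rw [← hsq]
    apply Finset.sum_congr rfl
    intro ψ _
    have := hle ψ
    interval_cases (m ψ) <;> rfl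
  refine ⟨hsum, fun ψ hψ => ⟨?_, ?_⟩⟩
  · have := hle ψ
    omega
  · have hdec := Helper2.classFun_eq_sum_classInner hcl
    have h1 := congrFun hdec 1
    rw [res_one] at h1
    rw [h1, ← hsum]
    simp only [Finset.sum_apply, Pi.smul_apply, smul_eq_mul]
    push_cast
    rw [Finset.sum_mul]
    apply Finset.sum_congr rfl
    intro ξ _
    rw [hm ξ]
    by_cases h0 : m ξ = 0
    · rw [h0]
      simp
    · rw [same_degree χ ψ ξ (by rw [hm ψ]; exact_mod_cast hψ) (by rw [hm ξ]; exact_mod_cast h0)]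

theorem sum_above (ψ : IrrCharacter (Matrix.SpecialLinearGroup (Fin 2) F)) :
    ∑ χ : IrrCharacter (GL (Fin 2) F), (χ : GL (Fin 2) F → ℂ) 1 *
      classInner (res (χ : GL (Fin 2) F → ℂ))
        (ψ : Matrix.SpecialLinearGroup (Fin 2) F → ℂ) =
      ((Fintype.card F : ℂ) - 1) * (ψ : Matrix.SpecialLinearGroup (Fin 2) F → ℂ) 1 := by
  classical
  unfold classInner
  have e1 : ∀ χ : IrrCharacter (GL (Fin 2) F), (χ : GL (Fin 2) F → ℂ) 1 *
      ((Nat.card (Matrix.SpecialLinearGroup (Fin 2) F) : ℂ)⁻¹ *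
        ∑ s : Matrix.SpecialLinearGroup (Fin 2) F, res (χ : GL (Fin 2) F → ℂ) s *
          conj ((ψ : Matrix.SpecialLinearGroup (Fin 2) F → ℂ) s)) =
      ∑ s : Matrix.SpecialLinearGroup (Fin 2) F,
        (Nat.card (Matrix.SpecialLinearGroup (Fin 2) F) : ℂ)⁻¹ *
          (conj ((ψ : Matrix.SpecialLinearGroup (Fin 2) F → ℂ) s) *
            ((χ : GL (Fin 2) F → ℂ) 1 *
              (χ : GL (Fin 2) F → ℂ) (Matrix.SpecialLinearGroup.toGL s))) := by
    intro χ
    rw [Finset.mul_sum, Finset.mul_sum]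
    apply Finset.sum_congr rfl
    intro s _
    rw [res_apply]
    ring
  rw [Finset.sum_congr rfl (fun χ _ => e1 χ), Finset.sum_comm]
  have e2 : ∀ s : Matrix.SpecialLinearGroup (Fin 2) F,
      ∑ χ : IrrCharacter (GL (Fin 2) F),
        (Nat.card (Matrix.SpecialLinearGroup (Fin 2) F) : ℂ)⁻¹ *
          (conj ((ψ : Matrix.SpecialLinearGroup (Fin 2) F → ℂ) s) *
            ((χ : GL (Fin 2) F → ℂ) 1 *
              (χ : GL (Fin 2) F → ℂ) (Matrix.SpecialLinearGroup.toGL s))) =
      (Nat.card (Matrix.SpecialLinearGroup (Fin 2) F) : ℂ)⁻¹ *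
          (conj ((ψ : Matrix.SpecialLinearGroup (Fin 2) F → ℂ) s) *
            (if s = 1 then (Nat.card (GL (Fin 2) F) : ℂ) else 0)) := by
    intro s
    rw [← Finset.mul_sum, ← Finset.mul_sum, reg_sum]
    congr 3
    rw [eq_iff_iff]
    exact map_eq_one_iff _ Matrix.SpecialLinearGroup.toGL_injective
  rw [Finset.sum_congr rfl (fun s _ => e2 s), Finset.sum_eq_single 1]
  · rw [if_pos rfl, Helper25.irr_one_eq_degree, Complex.conj_natCast, card_G_eq]
    have hS : (Nat.card (Matrix.SpecialLinearGroup (Fin 2) F) : ℂ) ≠ 0 :=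
      Helper2.natCard_ne_zero_complex _
    push_cast [Nat.cast_sub (one_lt_q (F := F)).le]
    field_simp
  · intro s _ hs
    rw [if_neg hs, mul_zero, mul_zero]
  · intro h
    exact absurd (Finset.mem_univ _) h

theorem qc_units_sum (hF : ringChar F ≠ 2) : ∑ d : Fˣ, (qc : MulChar F ℂ) (d : F) = 0 := by
  obtain ⟨n, hn⟩ := quadraticChar_exists_neg_one' hF
  have h1 := Equiv.sum_comp (Equiv.mulLeft n) (fun d : Fˣ => (qc : MulChar F ℂ) (d : F))
  have h2 : ∀ d : Fˣ, (qc : MulChar F ℂ) (((Equiv.mulLeft n) d : Fˣ) : F) =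
      - (qc : MulChar F ℂ) (d : F) := by
    intro d
    rw [Equiv.coe_mulLeft, Units.val_mul, map_mul, qc_apply (n : F), hn]
    simp
  rw [Finset.sum_congr rfl (fun d _ => h2 d), Finset.sum_neg_distrib] at h1
  have : (2 : ℂ) * ∑ d : Fˣ, (qc : MulChar F ℂ) (d : F) = 0 := by linear_combination -h1
  exact (mul_eq_zero.mp this).resolve_left two_ne_zero

open Classical in
/-- Brauer's count: the number of irreducible characters of `GL₂(F)` fixed by twisting with
the quadratic character is `q - 1` -/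
theorem fixed_count (hF : ringChar F ≠ 2) :
    Nat.card {χ : IrrCharacter (GL (Fin 2) F) //
      tw (χ : GL (Fin 2) F → ℂ) qc = (χ : GL (Fin 2) F → ℂ)} = Fintype.card F - 1 := by
  haveI : Fintype (ConjClasses (GL (Fin 2) F)) := Fintype.ofFinite _
  have hG : (Nat.card (GL (Fin 2) F) : ℂ) ≠ 0 := Helper2.natCard_ne_zero_complex _
  have h1 : ∀ χ : IrrCharacter (GL (Fin 2) F),
      classInner (tw (χ : GL (Fin 2) F → ℂ) qc) (χ : GL (Fin 2) F → ℂ) =
      if tw (χ : GL (Fin 2) F → ℂ) qc = (χ : GL (Fin 2) F → ℂ) then 1 else 0 := by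
    intro χ
    have := Helper2.classInner_irr_irr (⟨tw (χ : GL (Fin 2) F → ℂ) qc, tw_irr _ χ.2 qc⟩ :
      IrrCharacter (GL (Fin 2) F)) χ
    rw [this]
    by_cases h : tw (χ : GL (Fin 2) F → ℂ) qc = (χ : GL (Fin 2) F → ℂ)
    · rw [if_pos h, if_pos (Subtype.ext h)]
    · rw [if_neg h, if_neg (fun h' => h (congrArg Subtype.val h'))]
  have h2 : ∑ χ : IrrCharacter (GL (Fin 2) F),
      classInner (tw (χ : GL (Fin 2) F → ℂ) qc) (χ : GL (Fin 2) F → ℂ) =
      (Nat.card {χ : IrrCharacter (GL (Fin 2) F) //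
        tw (χ : GL (Fin 2) F → ℂ) qc = (χ : GL (Fin 2) F → ℂ)} : ℂ) := by
    rw [Finset.sum_congr rfl (fun χ _ => h1 χ), Helper2.sum_ite_const_eq_card, mul_one]
  -- the class function `g ↦ ε(det g) Σ_χ |χ(g)|²`
  obtain ⟨Fc, hFc⟩ : ∃ Fc : GL (Fin 2) F → ℂ, ∀ g, Fc g =
      ∑ χ : IrrCharacter (GL (Fin 2) F), lin qc g *
        ((χ : GL (Fin 2) F → ℂ) g * conj ((χ : GL (Fin 2) F → ℂ) g)) :=
    ⟨fun g => ∑ χ : IrrCharacter (GL (Fin 2) F), lin qc g *
        ((χ : GL (Fin 2) F → ℂ) g * conj ((χ : GL (Fin 2) F → ℂ) g)), fun g => rfl⟩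
  have hFcl : IsClassFunction (GL (Fin 2) F) Fc := by
    intro g h
    rw [hFc, hFc]
    apply Finset.sum_congr rfl
    intro χ _
    rw [lin_isClassFunction qc g h,
      Helper2.isClassFunction_of_isCharacter (Helper2.isCharacter_of_isIrrCharacter χ.2) g h]
  have hFval : ∀ g, Fc g = lin qc g *
      (Nat.card (Subgroup.centralizer ({g} : Set (GL (Fin 2) F))) : ℂ) := by
    intro g
    rw [hFc, ← Finset.mul_sum, Helper1.col_orth g g, if_pos (IsConj.refl g)]
  have h3 : ∑ χ : IrrCharacter (GL (Fin 2) F),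
      classInner (tw (χ : GL (Fin 2) F → ℂ) qc) (χ : GL (Fin 2) F → ℂ) =
      (Nat.card (GL (Fin 2) F) : ℂ)⁻¹ * ∑ g : GL (Fin 2) F, Fc g := by
    unfold classInner
    rw [← Finset.mul_sum, Finset.sum_comm]
    congr 1
    apply Finset.sum_congr rfl
    intro g _
    rw [hFc]
    apply Finset.sum_congr rfl
    intro χ _
    rw [tw_apply]
    ring
  have h4 : ∑ g : GL (Fin 2) F, Fc g = (Nat.card (GL (Fin 2) F) : ℂ) *
      ∑ c : ConjClasses (GL (Fin 2) F), lin qc (Quotient.out c) := by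
    rw [Helper1.sum_eq_sum_conjClasses Fc hFcl, Finset.mul_sum]
    apply Finset.sum_congr rfl
    intro c _
    rw [hFval, ← Subgroup.index_mul_card (Subgroup.centralizer
      ({Quotient.out c} : Set (GL (Fin 2) F)))]
    push_cast
    ring
  have h5 : ∑ c : ConjClasses (GL (Fin 2) F), lin qc (Quotient.out c) =
      ∑ x : Fˣ ⊕ (F × Fˣ), lin (qc : MulChar F ℂ) (clsRep x) := by
    symm
    apply Fintype.sum_bijective (fun x : Fˣ ⊕ (F × Fˣ) => ConjClasses.mk (clsRep x))
      clsRep_bijective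
    intro x
    apply Helper25.char_of_isConj (Helper2.isCharacter_of_isIrrCharacter (lin_irr qc))
    rw [← ConjClasses.mk_eq_mk_iff_isConj]
    exact (Quotient.out_eq _).symm
  have h6 : ∑ x : Fˣ ⊕ (F × Fˣ), lin (qc : MulChar F ℂ) (clsRep x) =
      (Fintype.card F : ℂ) - 1 := by
    rw [Fintype.sum_sum_type]
    have ha : ∀ a : Fˣ, lin (qc : MulChar F ℂ) (clsRep (Sum.inl a)) = 1 := by
      intro a
      show lin qc (scal a) = 1
      rw [lin_apply, scal_coe]
      simp only [Matrix.of_apply, Matrix.cons_val', Matrix.cons_val_zero, Matrix.cons_val_one,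
        Matrix.cons_val_fin_one, mul_zero, sub_zero]
      rw [← sq]
      exact qc_sq a
    have hb : ∀ p : F × Fˣ, lin (qc : MulChar F ℂ) (clsRep (Sum.inr p)) = qc (p.2 : F) := by
      rintro ⟨t, d⟩
      show lin qc (comp t (d : F) d.ne_zero) = _
      rw [lin_apply, comp_coe]
      simp
    rw [Finset.sum_congr rfl (fun a _ => ha a), Finset.sum_congr rfl (fun p _ => hb p),
      Fintype.sum_prod_type]
    simp only [qc_units_sum hF, Finset.sum_const_zero, add_zero, Finset.sum_const,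
      Finset.card_univ, nsmul_eq_mul, mul_one]
    rw [Fintype.card_units, Nat.cast_sub (one_lt_q (F := F)).le, Nat.cast_one]
  rw [h2, h4, h5, h6, ← mul_assoc, inv_mul_cancel₀ hG, one_mul] at h3
  have h7 : ((Nat.card {χ : IrrCharacter (GL (Fin 2) F) //
      tw (χ : GL (Fin 2) F → ℂ) qc = (χ : GL (Fin 2) F → ℂ)} : ℕ) : ℂ) =
      ((Fintype.card F - 1 : ℕ) : ℂ) := by
    rw [h3, Nat.cast_sub (one_lt_q (F := F)).le, Nat.cast_one]
  exact_mod_cast h7

/-- `SL₂(q)`, `q` odd, has `q + 4` irreducible characters -/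
theorem card_irr_sl_odd (hF : ringChar F ≠ 2) :
    Nat.card (IrrCharacter (Matrix.SpecialLinearGroup (Fin 2) F)) = Fintype.card F + 4 := by
  classical
  have hm : ∀ (χ : IrrCharacter (GL (Fin 2) F))
      (ψ : IrrCharacter (Matrix.SpecialLinearGroup (Fin 2) F)), ∃ m : ℕ,
      classInner (res (χ : GL (Fin 2) F → ℂ))
        (ψ : Matrix.SpecialLinearGroup (Fin 2) F → ℂ) = (m : ℂ) :=
    fun χ ψ => Helper2.classInner_char_nat
      (res_isCharacter (Helper2.isCharacter_of_isIrrCharacter χ.2))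
      (Helper2.isCharacter_of_isIrrCharacter ψ.2)
  choose m hm using hm
  obtain ⟨s, hs⟩ : ∃ s : IrrCharacter (GL (Fin 2) F) → ℕ, ∀ χ, s χ =
      if tw (χ : GL (Fin 2) F → ℂ) qc = (χ : GL (Fin 2) F → ℂ) then 2 else 1 :=
    ⟨fun χ => if tw (χ : GL (Fin 2) F → ℂ) qc = (χ : GL (Fin 2) F → ℂ) then 2 else 1,
      fun χ => rfl⟩
  have hq1 := one_lt_q (F := F)
  -- each `ψ`
  have hψ : ∀ ψ : IrrCharacter (Matrix.SpecialLinearGroup (Fin 2) F),
      ∑ χ : IrrCharacter (GL (Fin 2) F), s χ * m χ ψ = Fintype.card F - 1 := by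
    intro ψ
    have h1 := sum_above ψ
    have h2 : ∀ χ : IrrCharacter (GL (Fin 2) F), (χ : GL (Fin 2) F → ℂ) 1 *
        classInner (res (χ : GL (Fin 2) F → ℂ))
          (ψ : Matrix.SpecialLinearGroup (Fin 2) F → ℂ) =
        ((s χ * m χ ψ : ℕ) : ℂ) * (ψ : Matrix.SpecialLinearGroup (Fin 2) F → ℂ) 1 := by
      intro χ
      rw [hm χ ψ]
      by_cases h0 : m χ ψ = 0
      · rw [h0]
        simp
      · rw [((res_struct hF χ (m χ) (hm χ)).2 ψ h0).2, ← hs χ]
        push_cast
        ring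
    rw [Finset.sum_congr rfl (fun χ _ => h2 χ), ← Finset.sum_mul] at h1
    have h3 := mul_right_cancel₀ (Helper25.irr_one_ne_zero ψ) h1
    have h4 : ((∑ χ : IrrCharacter (GL (Fin 2) F), s χ * m χ ψ : ℕ) : ℂ) =
        ((Fintype.card F - 1 : ℕ) : ℂ) := by
      rw [Nat.cast_sub hq1.le, Nat.cast_one, ← h3]
      push_cast
      rfl
    exact_mod_cast h4
  -- each `χ`
  have hχ : ∀ χ : IrrCharacter (GL (Fin 2) F),
      ∑ ψ : IrrCharacter (Matrix.SpecialLinearGroup (Fin 2) F), s χ * m χ ψ = s χ * s χ := by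
    intro χ
    rw [← Finset.mul_sum, (res_struct hF χ (m χ) (hm χ)).1, ← hs χ]
  have hdouble : ∑ ψ : IrrCharacter (Matrix.SpecialLinearGroup (Fin 2) F),
      ∑ χ : IrrCharacter (GL (Fin 2) F), s χ * m χ ψ =
      ∑ χ : IrrCharacter (GL (Fin 2) F), s χ * s χ := by
    rw [Finset.sum_comm]
    exact Finset.sum_congr rfl (fun χ _ => hχ χ)
  rw [Finset.sum_congr rfl (fun ψ _ => hψ ψ), Finset.sum_const, Finset.card_univ,
    smul_eq_mul] at hdouble
  -- the sum of the `s χ²`
  have hss : ∑ χ : IrrCharacter (GL (Fin 2) F), s χ * s χ =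
      (Fintype.card F ^ 2 - 1) + 3 * (Fintype.card F - 1) := by
    have h1 : ∀ χ : IrrCharacter (GL (Fin 2) F), s χ * s χ = 1 + 3 *
        (if tw (χ : GL (Fin 2) F → ℂ) qc = (χ : GL (Fin 2) F → ℂ) then 1 else 0) := by
      intro χ
      rw [hs χ]
      split_ifs <;> rfl
    rw [Finset.sum_congr rfl (fun χ _ => h1 χ), Finset.sum_add_distrib, ← Finset.mul_sum,
      Finset.sum_const, Finset.card_univ, smul_eq_mul, mul_one, Finset.sum_boole,
      ← Fintype.card_subtype, ← Nat.card_eq_fintype_card, ← Nat.card_eq_fintype_card,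
      fixed_count hF, Helper1.card_irr, card_conjClasses]
    simp
  rw [hss, ← Nat.card_eq_fintype_card] at hdouble
  obtain ⟨k, hk⟩ : ∃ k, Fintype.card F = k + 2 := ⟨Fintype.card F - 2, by omega⟩
  rw [hk] at hdouble ⊢
  have e1 : (k + 2) ^ 2 - 1 + 3 * (k + 2 - 1) = (k + 2 + 4) * (k + 2 - 1) := by
    have : (k + 2) ^ 2 = k ^ 2 + 4 * k + 4 := by ring
    have h2 : k + 2 - 1 = k + 1 := by omega
    rw [h2, this]
    have : (k + 2 + 4) * (k + 1) = k ^ 2 + 7 * k + 6 := by ring
    rw [this]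
    omega
  rw [e1] at hdouble
  exact Nat.eq_of_mul_eq_mul_right (by omega) hdouble

end Cfsg.Agent.Helper14.GL2
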