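import Mathlib
import Cfsg.Agent.Helper14.SL2Odd
import Cfsg.Agent.S2298

set_option autoImplicit false
set_option linter.unusedSectionVars false

/-!
# Counting the irreducible characters of `SL₂(q)`, `q` odd, by degree

* `tw_ps`, `tw_lin`, `tw_st`: twists of the explicit characters of `GL₂(F)`;
* `fixed_ps_iff`, `fixed_deg`, `card_fixed_ps`, `card_fixed_cusp`: the characters fixed by the
  quadratic twist;
* `count_formula`: `#{ψ ∈ Irr(SL₂) | ψ(1) = d} · (q - 1) = #{χ | χ not fixed, χ(1) = d}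
  + 4 · #{χ | χ fixed, χ(1) = 2d}`.
-/

namespace Cfsg.Agent.Helper14.GL2

open Cfsg
open scoped ComplexConjugate MatrixGroups

variable {F : Type*} [Field F] [Fintype F] [DecidableEq F]

theorem tw_ps (α β l : MulChar F ℂ) : tw (ps α β) l = ps (l * α) (l * β) := by
  funext g
  rw [tw_apply]
  show lin l g * indFun _ _ g = indFun _ _ g
  rw [Helper2.indFun_apply, Helper2.indFun_apply, ← mul_assoc, mul_comm (lin l g), mul_assoc,
    Finset.mul_sum]
  congr 1
  apply Finset.sum_congr rfl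
  intro x _
  by_cases hx : x⁻¹ * g * x ∈ upperTriangularGL 2 F
  · rw [Helper2.extendByZero_of_mem _ _ hx, Helper2.extendByZero_of_mem _ _ hx]
    have h1 : lin l g = lin l (x⁻¹ * g * x) := by
      have := lin_isClassFunction l g x⁻¹
      rw [inv_inv] at this
      exact this.symm
    have h2 : lin l (x⁻¹ * g * x) = thetaHom l l ⟨x⁻¹ * g * x, hx⟩ :=
      lin_restrict l ⟨x⁻¹ * g * x, hx⟩
    rw [h1, h2]
    show thetaHom l l _ * thetaHom α β _ = thetaHom (l * α) (l * β) _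
    rw [thetaHom_apply, thetaHom_apply, thetaHom_apply, MulChar.mul_apply, MulChar.mul_apply]
    ring
  · rw [Helper2.extendByZero_of_not_mem _ _ hx, Helper2.extendByZero_of_not_mem _ _ hx, mul_zero]

theorem tw_lin (α l : MulChar F ℂ) : tw (lin α) l = lin (l * α) := by
  funext g
  rw [tw_apply, lin_mul]

theorem tw_st (α l : MulChar F ℂ) : tw (st α) l = st (l * α) := by
  funext g
  rw [tw_apply, st_apply, st_apply, mul_sub, ← tw_apply (ps α α) l, tw_ps, ← lin_mul]

theorem qc_mul_self : (qc : MulChar F ℂ) * qc = 1 := by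
  apply MulChar.ext
  intro a
  rw [MulChar.mul_apply, MulChar.one_apply a.isUnit, qc_apply]
  have := quadraticChar_sq_one (F := F) a.ne_zero
  have h2 : ((quadraticChar F (a : F) ^ 2 : ℤ) : ℂ) = 1 := by rw [this]; simp
  rw [← h2]
  push_cast
  ring

theorem not_fixed_lin (hF : ringChar F ≠ 2) (α : MulChar F ℂ) : tw (lin α) qc ≠ lin α := by
  intro h
  rw [tw_lin] at h
  have := lin_inj _ _ h
  exact qc_ne_one hF (mul_right_cancel (b := α) (by rw [this, one_mul]))

theorem not_fixed_st (hF : ringChar F ≠ 2) (α : MulChar F ℂ) : tw (st α) qc ≠ st α := by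
  intro h
  rw [tw_st] at h
  have := st_inj _ _ h
  exact qc_ne_one hF (mul_right_cancel (b := α) (by rw [this, one_mul]))

theorem fixed_ps_iff (hF : ringChar F ≠ 2) (α β : MulChar F ℂ) :
    tw (ps α β) qc = ps α β ↔ β = qc * α := by
  rw [tw_ps, ps_eq_iff]
  constructor
  · rintro (⟨h1, _⟩ | ⟨h1, _⟩)
    · exact absurd (mul_right_cancel (b := α) (by rw [h1, one_mul])) (qc_ne_one hF)
    · exact h1.symm
  · intro h
    right
    refine ⟨h.symm, ?_⟩
    rw [h, ← mul_assoc, qc_mul_self, one_mul]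

/-- a character fixed by the quadratic twist has degree `q + 1` or `q - 1` -/
theorem fixed_deg (hF : ringChar F ≠ 2) (χ : IrrCharacter (GL (Fin 2) F))
    (hfix : tw (χ : GL (Fin 2) F → ℂ) qc = (χ : GL (Fin 2) F → ℂ)) :
    (χ : GL (Fin 2) F → ℂ) 1 = (Fintype.card F : ℂ) + 1 ∨
      (χ : GL (Fin 2) F → ℂ) 1 = (Fintype.card F : ℂ) - 1 := by
  rcases classify (χ : GL (Fin 2) F → ℂ) χ.2 with ⟨α, hα⟩ | ⟨α, hα⟩ | ⟨α, β, _, hα⟩ | ⟨h1, _, _⟩
  · rw [hα] at hfix
    exact absurd hfix (not_fixed_lin hF α)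
  · rw [hα] at hfix
    exact absurd hfix (not_fixed_st hF α)
  · left
    rw [hα, ps_one]
  · right
    exact h1

theorem card_two_to_one {α β : Type*} [Fintype α] [DecidableEq α] [DecidableEq β] (f : α → β)
    (σ : α → α) (hσ : ∀ a, σ a ≠ a) (hf : ∀ a b, f a = f b ↔ (b = a ∨ b = σ a)) :
    2 * (Finset.univ.image f).card = Fintype.card α := by
  rw [← Finset.card_univ, Finset.card_eq_sum_card_fiberwise (f := f) (s := Finset.univ)
    (t := Finset.univ.image f) (fun a _ => Finset.mem_image_of_mem f (Finset.mem_univ a))]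
  rw [Finset.sum_congr rfl (g := fun _ => 2)]
  · rw [Finset.sum_const, smul_eq_mul, mul_comm]
  · intro b hb
    obtain ⟨a, _, rfl⟩ := Finset.mem_image.mp hb
    have : Finset.univ.filter (fun x => f x = f a) = {a, σ a} := by
      ext x
      simp only [Finset.mem_filter, Finset.mem_univ, true_and, Finset.mem_insert,
        Finset.mem_singleton]
      rw [eq_comm, hf a x]
    rw [this, Finset.card_pair (hσ a).symm]

open Classical in
theorem card_fixed_ps (hF : ringChar F ≠ 2) :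
    2 * Nat.card {χ : IrrCharacter (GL (Fin 2) F) //
      tw (χ : GL (Fin 2) F → ℂ) qc = (χ : GL (Fin 2) F → ℂ) ∧
        (χ : GL (Fin 2) F → ℂ) 1 = (Fintype.card F : ℂ) + 1} = Fintype.card F - 1 := by
  haveI : Fintype (MulChar F ℂ) := Fintype.ofFinite _
  have hq1 := one_lt_q (F := F)
  have hne : ∀ α : MulChar F ℂ, α ≠ qc * α := by
    intro α h
    exact qc_ne_one hF (mul_right_cancel (b := α) (by rw [← h, one_mul]))
  obtain ⟨f, hf⟩ : ∃ f : MulChar F ℂ → IrrCharacter (GL (Fin 2) F),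
      ∀ α, f α = ⟨ps α (qc * α), ps_irr α (qc * α) (hne α)⟩ :=
    ⟨fun α => ⟨ps α (qc * α), ps_irr α (qc * α) (hne α)⟩, fun α => rfl⟩
  have h2 := card_two_to_one f (fun α => qc * α) (fun α h => hne α h.symm) (by
    intro α β
    rw [hf, hf]
    constructor
    · intro h
      have h1 := congrArg Subtype.val h
      simp only at h1
      rcases (ps_eq_iff _ _ _ _).mp h1 with ⟨h3, _⟩ | ⟨h3, h4⟩
      · left
        exact h3.symm
      · right
        exact h4.symm
    · rintro (rfl | rfl)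
      · rfl
      · apply Subtype.ext
        show ps α (qc * α) = ps (qc * α) (qc * (qc * α))
        rw [ps_eq_iff]
        right
        refine ⟨?_, rfl⟩
        rw [← mul_assoc, qc_mul_self, one_mul])
  rw [card_mulChar] at h2
  rw [← h2, Nat.card_eq_fintype_card, Fintype.card_subtype]
  congr 2
  ext χ
  simp only [Finset.mem_filter, Finset.mem_univ, true_and, Finset.mem_image]
  constructor
  · rintro ⟨hfix, hdeg⟩
    rcases classify (χ : GL (Fin 2) F → ℂ) χ.2 with ⟨α, hα⟩ | ⟨α, hα⟩ | ⟨α, β, _, hα⟩ | ⟨h1, _, _⟩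
    · rw [hα] at hfix
      exact absurd hfix (not_fixed_lin hF α)
    · rw [hα] at hfix
      exact absurd hfix (not_fixed_st hF α)
    · rw [hα] at hfix
      have hβ := (fixed_ps_iff hF α β).mp hfix
      refine ⟨α, ?_⟩
      rw [hf]
      apply Subtype.ext
      show ps α (qc * α) = _
      rw [hα, hβ]
    · exfalso
      rw [h1] at hdeg
      have h2 : (2 : ℂ) = 0 := by linear_combination -hdeg
      norm_num at h2
  · rintro ⟨α, rfl⟩
    rw [hf]
    refine ⟨(fixed_ps_iff hF α (qc * α)).mpr rfl, ps_one α (qc * α)⟩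

open Classical in
theorem card_fixed_cusp (hF : ringChar F ≠ 2) :
    2 * Nat.card {χ : IrrCharacter (GL (Fin 2) F) //
      tw (χ : GL (Fin 2) F → ℂ) qc = (χ : GL (Fin 2) F → ℂ) ∧
        (χ : GL (Fin 2) F → ℂ) 1 = (Fintype.card F : ℂ) - 1} = Fintype.card F - 1 := by
  have h1 := fixed_count (F := F) hF
  have h2 := card_fixed_ps (F := F) hF
  have h3 : Nat.card {χ : IrrCharacter (GL (Fin 2) F) //
      tw (χ : GL (Fin 2) F → ℂ) qc = (χ : GL (Fin 2) F → ℂ)} =
      Nat.card {χ : IrrCharacter (GL (Fin 2) F) //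
        tw (χ : GL (Fin 2) F → ℂ) qc = (χ : GL (Fin 2) F → ℂ) ∧
          (χ : GL (Fin 2) F → ℂ) 1 = (Fintype.card F : ℂ) + 1} +
      Nat.card {χ : IrrCharacter (GL (Fin 2) F) //
        tw (χ : GL (Fin 2) F → ℂ) qc = (χ : GL (Fin 2) F → ℂ) ∧
          (χ : GL (Fin 2) F → ℂ) 1 = (Fintype.card F : ℂ) - 1} := by
    rw [Nat.card_eq_fintype_card, Nat.card_eq_fintype_card, Nat.card_eq_fintype_card,
      Fintype.card_subtype, Fintype.card_subtype, Fintype.card_subtype,
      ← Finset.card_union_of_disjoint]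
    · congr 1
      ext χ
      simp only [Finset.mem_filter, Finset.mem_univ, true_and, Finset.mem_union]
      constructor
      · intro h
        rcases fixed_deg hF χ h with h' | h'
        · exact Or.inl ⟨h, h'⟩
        · exact Or.inr ⟨h, h'⟩
      · rintro (⟨h, _⟩ | ⟨h, _⟩) <;> exact h
    · rw [Finset.disjoint_left]
      intro χ hχ hχ'
      simp only [Finset.mem_filter, Finset.mem_univ, true_and] at hχ hχ'
      have : (2 : ℂ) = 0 := by linear_combination hχ.2.symm.trans hχ'.2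
      norm_num at this
  omega

theorem exists_mult (χ : IrrCharacter (GL (Fin 2) F))
    (ψ : IrrCharacter (Matrix.SpecialLinearGroup (Fin 2) F)) : ∃ m : ℕ,
    classInner (res (χ : GL (Fin 2) F → ℂ))
      (ψ : Matrix.SpecialLinearGroup (Fin 2) F → ℂ) = (m : ℂ) :=
  Helper2.classInner_char_nat (res_isCharacter (Helper2.isCharacter_of_isIrrCharacter χ.2))
    (Helper2.isCharacter_of_isIrrCharacter ψ.2)

/-- the multiplicity of `ψ` in the restriction of `χ` to `SL₂` -/
noncomputable def mult (χ : IrrCharacter (GL (Fin 2) F))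
    (ψ : IrrCharacter (Matrix.SpecialLinearGroup (Fin 2) F)) : ℕ := (exists_mult χ ψ).choose

theorem mult_spec (χ : IrrCharacter (GL (Fin 2) F))
    (ψ : IrrCharacter (Matrix.SpecialLinearGroup (Fin 2) F)) :
    classInner (res (χ : GL (Fin 2) F → ℂ))
      (ψ : Matrix.SpecialLinearGroup (Fin 2) F → ℂ) = (mult χ ψ : ℂ) :=
  (exists_mult χ ψ).choose_spec

open Classical in
/-- `2` if `χ` is fixed by the quadratic twist, `1` otherwise -/
noncomputable def sFix (χ : IrrCharacter (GL (Fin 2) F)) : ℕ :=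
  if tw (χ : GL (Fin 2) F → ℂ) qc = (χ : GL (Fin 2) F → ℂ) then 2 else 1

theorem sFix_pos (χ : IrrCharacter (GL (Fin 2) F)) : sFix χ = 2 ∨ sFix χ = 1 := by
  unfold sFix
  split_ifs
  · left; rfl
  · right; rfl

theorem sFix_of_fixed (χ : IrrCharacter (GL (Fin 2) F))
    (h : tw (χ : GL (Fin 2) F → ℂ) qc = (χ : GL (Fin 2) F → ℂ)) : sFix χ = 2 := by
  unfold sFix
  rw [if_pos h]

theorem sFix_of_not_fixed (χ : IrrCharacter (GL (Fin 2) F))
    (h : ¬ tw (χ : GL (Fin 2) F → ℂ) qc = (χ : GL (Fin 2) F → ℂ)) : sFix χ = 1 := by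
  unfold sFix
  rw [if_neg h]

theorem mult_struct (hF : ringChar F ≠ 2) (χ : IrrCharacter (GL (Fin 2) F)) :
    (∑ ψ, mult χ ψ = sFix χ) ∧
    (∀ ψ : IrrCharacter (Matrix.SpecialLinearGroup (Fin 2) F), mult χ ψ ≠ 0 → mult χ ψ = 1 ∧
      (χ : GL (Fin 2) F → ℂ) 1 =
        (sFix χ : ℂ) * (ψ : Matrix.SpecialLinearGroup (Fin 2) F → ℂ) 1) :=
  res_struct hF χ (mult χ) (mult_spec χ)

theorem sum_sFix_mult (hF : ringChar F ≠ 2)
    (ψ : IrrCharacter (Matrix.SpecialLinearGroup (Fin 2) F)) :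
    ∑ χ : IrrCharacter (GL (Fin 2) F), sFix χ * mult χ ψ = Fintype.card F - 1 := by
  have hq1 := one_lt_q (F := F)
  have h1 := sum_above ψ
  have h2 : ∀ χ : IrrCharacter (GL (Fin 2) F), (χ : GL (Fin 2) F → ℂ) 1 *
      classInner (res (χ : GL (Fin 2) F → ℂ))
        (ψ : Matrix.SpecialLinearGroup (Fin 2) F → ℂ) =
      ((sFix χ * mult χ ψ : ℕ) : ℂ) * (ψ : Matrix.SpecialLinearGroup (Fin 2) F → ℂ) 1 := by
    intro χ
    rw [mult_spec χ ψ]
    by_cases h0 : mult χ ψ = 0
    · rw [h0]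
      simp
    · rw [((mult_struct hF χ).2 ψ h0).2]
      push_cast
      ring
  rw [Finset.sum_congr rfl (fun χ _ => h2 χ), ← Finset.sum_mul] at h1
  have h3 := mul_right_cancel₀ (Helper25.irr_one_ne_zero ψ) h1
  have h4 : ((∑ χ : IrrCharacter (GL (Fin 2) F), sFix χ * mult χ ψ : ℕ) : ℂ) =
      ((Fintype.card F - 1 : ℕ) : ℂ) := by
    rw [Nat.cast_sub hq1.le, Nat.cast_one, ← h3]
    push_cast
    rfl
  exact_mod_cast h4

open Classical in
/-- the number of irreducible characters of `SL₂(q)` of degree `d`, in terms of `GL₂(q)` -/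
theorem count_formula (hF : ringChar F ≠ 2) (d : ℂ) :
    Nat.card {ψ : IrrCharacter (Matrix.SpecialLinearGroup (Fin 2) F) //
        (ψ : Matrix.SpecialLinearGroup (Fin 2) F → ℂ) 1 = d} * (Fintype.card F - 1) =
      Nat.card {χ : IrrCharacter (GL (Fin 2) F) //
        ¬ tw (χ : GL (Fin 2) F → ℂ) qc = (χ : GL (Fin 2) F → ℂ) ∧
          (χ : GL (Fin 2) F → ℂ) 1 = d} +
      4 * Nat.card {χ : IrrCharacter (GL (Fin 2) F) //
        tw (χ : GL (Fin 2) F → ℂ) qc = (χ : GL (Fin 2) F → ℂ) ∧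
          (χ : GL (Fin 2) F → ℂ) 1 = 2 * d} := by
  have h1 : Nat.card {ψ : IrrCharacter (Matrix.SpecialLinearGroup (Fin 2) F) //
        (ψ : Matrix.SpecialLinearGroup (Fin 2) F → ℂ) 1 = d} * (Fintype.card F - 1) =
      ∑ ψ ∈ Finset.univ.filter (fun ψ : IrrCharacter (Matrix.SpecialLinearGroup (Fin 2) F) =>
        (ψ : Matrix.SpecialLinearGroup (Fin 2) F → ℂ) 1 = d),
        ∑ χ : IrrCharacter (GL (Fin 2) F), sFix χ * mult χ ψ := by
    rw [Finset.sum_congr rfl (fun ψ _ => sum_sFix_mult hF ψ), Finset.sum_const, smul_eq_mul,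
      Nat.card_eq_fintype_card, Fintype.card_subtype]
  rw [h1, Finset.sum_comm]
  have h2 : ∀ χ : IrrCharacter (GL (Fin 2) F),
      ∑ ψ ∈ Finset.univ.filter (fun ψ : IrrCharacter (Matrix.SpecialLinearGroup (Fin 2) F) =>
        (ψ : Matrix.SpecialLinearGroup (Fin 2) F → ℂ) 1 = d), sFix χ * mult χ ψ =
      (if ¬ tw (χ : GL (Fin 2) F → ℂ) qc = (χ : GL (Fin 2) F → ℂ) ∧
          (χ : GL (Fin 2) F → ℂ) 1 = d then 1 else 0) +
      4 * (if tw (χ : GL (Fin 2) F → ℂ) qc = (χ : GL (Fin 2) F → ℂ) ∧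
          (χ : GL (Fin 2) F → ℂ) 1 = 2 * d then 1 else 0) := by
    intro χ
    obtain ⟨hsum, hstr⟩ := mult_struct hF χ
    rw [← Finset.mul_sum]
    have hs0 : (sFix χ : ℂ) ≠ 0 := by
      rcases sFix_pos χ with h | h <;> rw [h] <;> norm_num
    by_cases hd : (χ : GL (Fin 2) F → ℂ) 1 = (sFix χ : ℂ) * d
    · have hfull : ∑ ψ ∈ Finset.univ.filter
          (fun ψ : IrrCharacter (Matrix.SpecialLinearGroup (Fin 2) F) =>
            (ψ : Matrix.SpecialLinearGroup (Fin 2) F → ℂ) 1 = d), mult χ ψ =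
          ∑ ψ, mult χ ψ := by
        apply Finset.sum_subset (Finset.filter_subset _ _)
        intro ψ _ hψ
        simp only [Finset.mem_filter, Finset.mem_univ, true_and] at hψ
        by_contra h0
        have h3 := (hstr ψ h0).2
        rw [hd] at h3
        exact hψ (mul_left_cancel₀ hs0 h3).symm
      rw [hfull, hsum]
      by_cases hfix : tw (χ : GL (Fin 2) F → ℂ) qc = (χ : GL (Fin 2) F → ℂ)
      · rw [sFix_of_fixed χ hfix] at hd ⊢
        rw [if_neg (fun h => h.1 hfix), if_pos ⟨hfix, by rw [hd]; norm_num⟩]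
        rfl
      · rw [sFix_of_not_fixed χ hfix] at hd ⊢
        rw [if_pos ⟨hfix, by rw [hd]; norm_num⟩, if_neg (fun h => hfix h.1)]
        rfl
    · have hzero : ∑ ψ ∈ Finset.univ.filter
          (fun ψ : IrrCharacter (Matrix.SpecialLinearGroup (Fin 2) F) =>
            (ψ : Matrix.SpecialLinearGroup (Fin 2) F → ℂ) 1 = d), mult χ ψ = 0 := by
        apply Finset.sum_eq_zero
        intro ψ hψ
        simp only [Finset.mem_filter, Finset.mem_univ, true_and] at hψ
        by_contra h0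
        exact hd (by rw [(hstr ψ h0).2, hψ])
      rw [hzero, mul_zero]
      by_cases hfix : tw (χ : GL (Fin 2) F → ℂ) qc = (χ : GL (Fin 2) F → ℂ)
      · rw [sFix_of_fixed χ hfix] at hd
        rw [if_neg (fun h => h.1 hfix), if_neg (fun h => hd (by rw [h.2]; norm_num))]
        rfl
      · rw [sFix_of_not_fixed χ hfix] at hd
        rw [if_neg (fun h => hd (by rw [h.2]; norm_num)), if_neg (fun h => hfix h.1)]
        rfl
  rw [Finset.sum_congr rfl (fun χ _ => h2 χ), Finset.sum_add_distrib, ← Finset.mul_sum,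
    Finset.sum_boole, Finset.sum_boole, Nat.card_eq_fintype_card, Nat.card_eq_fintype_card,
    Fintype.card_subtype, Fintype.card_subtype]
  simp

open Classical in
theorem card_split (D : ℂ) :
    Nat.card {χ : IrrCharacter (GL (Fin 2) F) // (χ : GL (Fin 2) F → ℂ) 1 = D} =
      Nat.card {χ : IrrCharacter (GL (Fin 2) F) //
        tw (χ : GL (Fin 2) F → ℂ) qc = (χ : GL (Fin 2) F → ℂ) ∧
          (χ : GL (Fin 2) F → ℂ) 1 = D} +
      Nat.card {χ : IrrCharacter (GL (Fin 2) F) //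
        ¬ tw (χ : GL (Fin 2) F → ℂ) qc = (χ : GL (Fin 2) F → ℂ) ∧
          (χ : GL (Fin 2) F → ℂ) 1 = D} := by
  rw [Nat.card_eq_fintype_card, Nat.card_eq_fintype_card, Nat.card_eq_fintype_card,
    Fintype.card_subtype, Fintype.card_subtype, Fintype.card_subtype,
    ← Finset.card_union_of_disjoint]
  · congr 1
    ext χ
    simp only [Finset.mem_filter, Finset.mem_univ, true_and, Finset.mem_union]
    tauto
  · rw [Finset.disjoint_left]
    intro χ hχ hχ'
    simp only [Finset.mem_filter, Finset.mem_univ, true_and] at hχ hχ'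
    exact hχ'.1 hχ.1

theorem card_fixed_zero (hF : ringChar F ≠ 2) (D : ℂ) (h1 : D ≠ (Fintype.card F : ℂ) + 1)
    (h2 : D ≠ (Fintype.card F : ℂ) - 1) :
    Nat.card {χ : IrrCharacter (GL (Fin 2) F) //
        tw (χ : GL (Fin 2) F → ℂ) qc = (χ : GL (Fin 2) F → ℂ) ∧
          (χ : GL (Fin 2) F → ℂ) 1 = D} = 0 := by
  haveI : IsEmpty {χ : IrrCharacter (GL (Fin 2) F) //
        tw (χ : GL (Fin 2) F → ℂ) qc = (χ : GL (Fin 2) F → ℂ) ∧
          (χ : GL (Fin 2) F → ℂ) 1 = D} := by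
    refine ⟨fun ⟨χ, hfix, hD⟩ => ?_⟩
    rcases fixed_deg hF χ hfix with h | h
    · exact h1 (hD.symm.trans h)
    · exact h2 (hD.symm.trans h)
  exact Nat.card_of_isEmpty

theorem card_deg_zero (D : ℂ) (h1 : D ≠ 1) (h2 : D ≠ (Fintype.card F : ℂ) - 1)
    (h3 : D ≠ (Fintype.card F : ℂ)) (h4 : D ≠ (Fintype.card F : ℂ) + 1) :
    Nat.card {χ : IrrCharacter (GL (Fin 2) F) // (χ : GL (Fin 2) F → ℂ) 1 = D} = 0 := by
  haveI : IsEmpty {χ : IrrCharacter (GL (Fin 2) F) // (χ : GL (Fin 2) F → ℂ) 1 = D} := by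
    refine ⟨fun ⟨χ, hD⟩ => ?_⟩
    rcases (Cfsg.Agent.S2298.result (F := F)).1 (χ : GL (Fin 2) F → ℂ) χ.2 with h | h | h | h
    · exact h1 (hD.symm.trans h)
    · exact h2 (hD.symm.trans h)
    · exact h3 (hD.symm.trans h)
    · exact h4 (hD.symm.trans h)
  exact Nat.card_of_isEmpty

end Cfsg.Agent.Helper14.GL2
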