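import Mathlib
import Cfsg.Agent.Helper14.SL2Count

set_option autoImplicit false
set_option linter.unusedSectionVars false

/-!
# The Steinberg character of `SL₂(q)`

* `ps_scal`, `st_scal`: values of the principal series and Steinberg characters of `GL₂(F)` at
  scalar matrices;
* `steinberg_sl`: an irreducible character of `SL₂(F)` of degree `q` is the restriction of some
  `st α`;
* `steinberg_center`: such a character is trivial on the centre.
-/

namespace Cfsg.Agent.Helper14.GL2

open Cfsg
open scoped ComplexConjugate MatrixGroups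

variable {F : Type*} [Field F] [Fintype F] [DecidableEq F]

theorem ps_scal (α β : MulChar F ℂ) (a : Fˣ) :
    ps α β (scal a) = ((Fintype.card F : ℂ) + 1) * (α (a : F) * β (a : F)) := by
  classical
  have hmem : (scal a : GL (Fin 2) F) ∈ upperTriangularGL 2 F :=
    (mem_upper_iff _).mpr (by rw [scal_coe]; simp)
  have h1 : ∀ x : GL (Fin 2) F, extendByZero (upperTriangularGL 2 F)
      (fun b => thetaHom α β b) (x⁻¹ * scal a * x) = α (a : F) * β (a : F) := by
    intro x
    have e : x⁻¹ * scal a * x = scal a := by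
      rw [scal_comm a x⁻¹, mul_assoc, inv_mul_cancel, mul_one]
    rw [e, Helper2.extendByZero_of_mem _ _ hmem, thetaHom_apply]
    simp [scal_coe]
  have h2 := ps_one α β
  have h3 : ps α β 1 = (Nat.card ↥(upperTriangularGL 2 F) : ℂ)⁻¹ *
      (Fintype.card (GL (Fin 2) F) : ℂ) := ind_one α β
  rw [← h2, h3]
  show indFun _ _ _ = _
  rw [Helper2.indFun_apply, Finset.sum_congr rfl (fun x _ => h1 x), Finset.sum_const,
    Finset.card_univ, nsmul_eq_mul]
  ring

theorem st_scal (α : MulChar F ℂ) (a : Fˣ) :
    st α (scal a) = (Fintype.card F : ℂ) * (α (a : F) * α (a : F)) := by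
  rw [st_apply, ps_scal, lin_apply, scal_coe]
  simp only [Matrix.of_apply, Matrix.cons_val', Matrix.cons_val_zero, Matrix.cons_val_one,
    Matrix.cons_val_fin_one, mul_zero, sub_zero]
  rw [map_mul]
  ring

/-- an irreducible character of `SL₂(F)` of degree `q` is the restriction of a Steinberg
character of `GL₂(F)` -/
theorem steinberg_sl (ψ : IrrCharacter (Matrix.SpecialLinearGroup (Fin 2) F))
    (hψ : (ψ : Matrix.SpecialLinearGroup (Fin 2) F → ℂ) 1 = (Fintype.card F : ℂ)) :
    ∃ α : MulChar F ℂ, (ψ : Matrix.SpecialLinearGroup (Fin 2) F → ℂ) = res (st α) := by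
  classical
  have hq1 := one_lt_q (F := F)
  obtain ⟨χ, k, hk, hχ1, hres⟩ := above ψ
  rw [hψ] at hχ1
  have key : ∀ (a b : ℕ), ((a : ℂ) = (b : ℂ)) → a = b := fun a b h => by exact_mod_cast h
  have hk1 : k = 1 := by
    rcases classify (χ : GL (Fin 2) F → ℂ) χ.2 with ⟨α, hα⟩ | ⟨α, hα⟩ | ⟨α, β, _, hα⟩ | ⟨h1, _, _⟩
    · rw [hα, lin_one] at hχ1
      have := key 1 (k * Fintype.card F) (by push_cast; exact hχ1)
      have h2 : k * 2 ≤ k * Fintype.card F := Nat.mul_le_mul_left k hq1
      omega
    · rw [hα, st_one] at hχ1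
      have := key (1 * Fintype.card F) (k * Fintype.card F) (by push_cast; linear_combination hχ1)
      exact (Nat.eq_of_mul_eq_mul_right (by omega) this).symm
    · rw [hα, ps_one] at hχ1
      have := key (Fintype.card F + 1) (k * Fintype.card F) (by push_cast; exact hχ1)
      have h2 : k ≠ 1 := by
        rintro rfl
        omega
      have h3 : 2 * Fintype.card F ≤ k * Fintype.card F := Nat.mul_le_mul_right _ (by omega)
      omega
    · rw [h1] at hχ1
      have := key (Fintype.card F) (k * Fintype.card F + 1) (by push_cast; linear_combination hχ1)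
      have h3 : 1 * Fintype.card F ≤ k * Fintype.card F := Nat.mul_le_mul_right _ (by omega)
      omega
  rw [hk1, Nat.cast_one, one_mul] at hχ1
  have hres' := hres hk1
  rcases classify (χ : GL (Fin 2) F → ℂ) χ.2 with ⟨α, hα⟩ | ⟨α, hα⟩ | ⟨α, β, _, hα⟩ | ⟨h1, _, _⟩
  · exfalso
    rw [hα, lin_one] at hχ1
    have := key 1 (Fintype.card F) (by push_cast; exact hχ1)
    omega
  · exact ⟨α, by rw [← hres', hα]⟩
  · exfalso
    rw [hα, ps_one] at hχ1
    have : (1 : ℂ) = 0 := by linear_combination hχ1
    exact one_ne_zero this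
  · exfalso
    rw [h1] at hχ1
    have : (1 : ℂ) = 0 := by linear_combination -hχ1
    exact one_ne_zero this

/-- an irreducible character of `SL₂(F)` of degree `q` is trivial on the centre -/
theorem steinberg_center (ψ : IrrCharacter (Matrix.SpecialLinearGroup (Fin 2) F))
    (hψ : (ψ : Matrix.SpecialLinearGroup (Fin 2) F → ℂ) 1 = (Fintype.card F : ℂ))
    (z : Matrix.SpecialLinearGroup (Fin 2) F)
    (hz : z ∈ Subgroup.center (Matrix.SpecialLinearGroup (Fin 2) F)) :
    (ψ : Matrix.SpecialLinearGroup (Fin 2) F → ℂ) z =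
      (ψ : Matrix.SpecialLinearGroup (Fin 2) F → ℂ) 1 := by
  obtain ⟨α, hα⟩ := steinberg_sl ψ hψ
  obtain ⟨r, hr, hrz⟩ := Matrix.SpecialLinearGroup.mem_center_iff.mp hz
  rw [Fintype.card_fin] at hr
  have hr0 : r ≠ 0 := by
    intro h0
    rw [h0] at hr
    simp at hr
  have hzs : Matrix.SpecialLinearGroup.toGL z = scal (Units.mk0 r hr0) := by
    apply Units.ext
    rw [scal_coe]
    show (z : Matrix (Fin 2) (Fin 2) F) = _
    rw [← hrz]
    ext i j
    fin_cases i <;> fin_cases j <;> simp [Matrix.scalar_apply]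
  rw [hψ, hα, res_apply, hzs, st_scal, Units.val_mk0, ← map_mul, ← sq, hr, map_one, mul_one]

end Cfsg.Agent.Helper14.GL2
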