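import Mathlib
import Cfsg.Agent.Helper14.SL2Stein
import Cfsg.Agent.S2299
import Cfsg.Agent.Helper14.DegGraph

set_option autoImplicit false
set_option linter.unusedSectionVars false

/-!
# Characters of `SL₂(q)`, `q` odd, that are trivial on the centre

* `central_invol`: an irreducible character takes the value `± χ(1)` at a central involution;
* `zNeg`: the central element `-1` of `SL₂(F)`; `center_cases`;
* `half_sum`: the squares of the degrees of the characters trivial at `-1` sum to `|SL₂|/2`;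
* `psl_exists`: for `q ≥ 7` there are irreducible characters of degrees `q + 1` and `q - 1`
  trivial on the centre.
-/

namespace Cfsg.Agent.Helper14.GL2

open Cfsg
open scoped ComplexConjugate MatrixGroups

variable {F : Type*} [Field F] [Fintype F] [DecidableEq F]

theorem central_invol {G : Type*} [Group G] [Finite G] (χ : IrrCharacter G) (z : G)
    (hz : z ∈ Subgroup.center G) (hzz : z * z = 1) :
    (χ : G → ℂ) z = (χ : G → ℂ) 1 ∨ (χ : G → ℂ) z = -(χ : G → ℂ) 1 := by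
  obtain ⟨n, ρ, hρ, hχ⟩ := χ.2
  haveI := hρ
  have hcomm : ∀ g, ρ z ∘ₗ ρ g = ρ g ∘ₗ ρ z := by
    intro g
    rw [← Module.End.mul_eq_comp, ← Module.End.mul_eq_comp, ← map_mul, ← map_mul,
      (Subgroup.mem_center_iff.mp hz g)]
  obtain ⟨c, hc⟩ := Helper1.exists_scalar_of_commute ρ (ρ z) hcomm
  have hmul : ∀ g : G, (χ : G → ℂ) (z * g) = c * (χ : G → ℂ) g := by
    intro g
    rw [← hχ]
    simp only [Representation.character, map_mul, hc]
    rw [Module.End.mul_eq_comp, LinearMap.smul_comp, LinearMap.id_comp, map_smul, smul_eq_mul]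
  have h1 := hmul z
  have h2 := hmul 1
  rw [mul_one] at h2
  rw [hzz, h2] at h1
  have h0 := Helper25.irr_one_ne_zero χ
  have h3 : (c - 1) * (c + 1) = 0 := by
    have : ((c - 1) * (c + 1)) * (χ : G → ℂ) 1 = 0 := by linear_combination -h1
    exact (mul_eq_zero.mp this).resolve_right h0
  rcases mul_eq_zero.mp h3 with h | h
  · left
    rw [h2]
    linear_combination h * (χ : G → ℂ) 1
  · right
    rw [h2]
    linear_combination h * (χ : G → ℂ) 1

/-- the central element `-1` of `SL₂(F)` -/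
def zNeg : Matrix.SpecialLinearGroup (Fin 2) F :=
  ⟨!![-1, 0; 0, -1], by simp [Matrix.det_fin_two]⟩

theorem zNeg_coe : ((zNeg : Matrix.SpecialLinearGroup (Fin 2) F) : Matrix (Fin 2) (Fin 2) F) =
    !![-1, 0; 0, -1] := rfl

theorem zNeg_mem_center :
    (zNeg : Matrix.SpecialLinearGroup (Fin 2) F) ∈
      Subgroup.center (Matrix.SpecialLinearGroup (Fin 2) F) := by
  rw [Matrix.SpecialLinearGroup.mem_center_iff]
  refine ⟨-1, by simp, ?_⟩
  rw [zNeg_coe]
  ext i j
  fin_cases i <;> fin_cases j <;> simp [Matrix.scalar_apply]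

theorem zNeg_mul_self : (zNeg : Matrix.SpecialLinearGroup (Fin 2) F) * zNeg = 1 := by
  apply Subtype.ext
  rw [Matrix.SpecialLinearGroup.coe_mul, zNeg_coe]
  ext i j
  fin_cases i <;> fin_cases j <;> simp [Matrix.mul_apply, Fin.sum_univ_two]

theorem zNeg_ne_one (hF : ringChar F ≠ 2) : (zNeg : Matrix.SpecialLinearGroup (Fin 2) F) ≠ 1 := by
  intro h
  have h1 := congrArg (fun g : Matrix.SpecialLinearGroup (Fin 2) F =>
    (g : Matrix (Fin 2) (Fin 2) F) 0 0) h
  simp [zNeg_coe] at h1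
  exact Ring.neg_one_ne_one_of_char_ne_two hF h1

theorem center_cases (z : Matrix.SpecialLinearGroup (Fin 2) F)
    (hz : z ∈ Subgroup.center (Matrix.SpecialLinearGroup (Fin 2) F)) : z = 1 ∨ z = zNeg := by
  obtain ⟨r, hr, hrz⟩ := Matrix.SpecialLinearGroup.mem_center_iff.mp hz
  rw [Fintype.card_fin] at hr
  have h0 : (r - 1) * (r + 1) = 0 := by linear_combination hr
  rcases mul_eq_zero.mp h0 with h | h
  · left
    apply Subtype.ext
    rw [← hrz, sub_eq_zero.mp h]
    simp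
  · right
    apply Subtype.ext
    rw [← hrz, eq_neg_of_add_eq_zero_left h, zNeg_coe]
    ext i j
    fin_cases i <;> fin_cases j <;> simp [Matrix.scalar_apply]

open Classical in
theorem half_sum (hF : ringChar F ≠ 2) :
    ∑ ψ : IrrCharacter (Matrix.SpecialLinearGroup (Fin 2) F),
      (if (ψ : Matrix.SpecialLinearGroup (Fin 2) F → ℂ) zNeg =
          (ψ : Matrix.SpecialLinearGroup (Fin 2) F → ℂ) 1
        then 2 * ((ψ : Matrix.SpecialLinearGroup (Fin 2) F → ℂ) 1 *
          (ψ : Matrix.SpecialLinearGroup (Fin 2) F → ℂ) 1) else 0) =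
      (Nat.card (Matrix.SpecialLinearGroup (Fin 2) F) : ℂ) := by
  have h1 := reg_sum (G := Matrix.SpecialLinearGroup (Fin 2) F) 1
  have h2 := reg_sum (G := Matrix.SpecialLinearGroup (Fin 2) F) zNeg
  rw [if_pos rfl] at h1
  rw [if_neg (zNeg_ne_one hF)] at h2
  have h3 : ∑ ψ : IrrCharacter (Matrix.SpecialLinearGroup (Fin 2) F),
      ((ψ : Matrix.SpecialLinearGroup (Fin 2) F → ℂ) 1 *
          (ψ : Matrix.SpecialLinearGroup (Fin 2) F → ℂ) 1 +
        (ψ : Matrix.SpecialLinearGroup (Fin 2) F → ℂ) 1 *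
          (ψ : Matrix.SpecialLinearGroup (Fin 2) F → ℂ) zNeg) =
      (Nat.card (Matrix.SpecialLinearGroup (Fin 2) F) : ℂ) := by
    rw [Finset.sum_add_distrib, h1, h2, add_zero]
  rw [← h3]
  apply Finset.sum_congr rfl
  intro ψ _
  rcases central_invol ψ zNeg zNeg_mem_center zNeg_mul_self with h | h
  · rw [if_pos h, h]
    ring
  · have hne : (ψ : Matrix.SpecialLinearGroup (Fin 2) F → ℂ) zNeg ≠
        (ψ : Matrix.SpecialLinearGroup (Fin 2) F → ℂ) 1 := by
      rw [h]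
      intro h'
      have h0 := Helper25.irr_one_ne_zero ψ
      have : (2 : ℂ) * (ψ : Matrix.SpecialLinearGroup (Fin 2) F → ℂ) 1 = 0 := by
        linear_combination -h'
      rcases mul_eq_zero.mp this with h3 | h3
      · norm_num at h3
      · exact h0 h3
    rw [if_neg hne, h]
    ring

/-- the number of irreducible characters of `SL₂(F)` of degree `d` that are trivial at `-1` -/
noncomputable def evenCount (F : Type*) [Field F] [Fintype F] [DecidableEq F] (d : ℕ) : ℕ :=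
  Nat.card {ψ : IrrCharacter (Matrix.SpecialLinearGroup (Fin 2) F) //
    (ψ : Matrix.SpecialLinearGroup (Fin 2) F → ℂ) zNeg =
      (ψ : Matrix.SpecialLinearGroup (Fin 2) F → ℂ) 1 ∧
    (ψ : Matrix.SpecialLinearGroup (Fin 2) F → ℂ) 1 = (d : ℂ)}

theorem evenCount_le (d : ℕ) (c : ℂ) (hc : c = (d : ℂ)) :
    evenCount F d ≤ Nat.card {ψ : IrrCharacter (Matrix.SpecialLinearGroup (Fin 2) F) //
      (ψ : Matrix.SpecialLinearGroup (Fin 2) F → ℂ) 1 = c} := by
  subst hc
  exact Nat.card_le_card_of_injective (fun x => ⟨x.1, x.2.2⟩)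
    (fun a b h => by
      have h2 := congrArg (fun y : {ψ : IrrCharacter (Matrix.SpecialLinearGroup (Fin 2) F) //
        (ψ : Matrix.SpecialLinearGroup (Fin 2) F → ℂ) 1 = (d : ℂ)} => y.1) h
      exact Subtype.ext h2)

theorem evenCount_pos (d : ℕ) (ψ : IrrCharacter (Matrix.SpecialLinearGroup (Fin 2) F))
    (h1 : (ψ : Matrix.SpecialLinearGroup (Fin 2) F → ℂ) zNeg =
      (ψ : Matrix.SpecialLinearGroup (Fin 2) F → ℂ) 1)
    (h2 : (ψ : Matrix.SpecialLinearGroup (Fin 2) F → ℂ) 1 = (d : ℂ)) : 0 < evenCount F d := by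
  unfold evenCount
  rw [Nat.card_pos_iff]
  exact ⟨⟨⟨ψ, h1, h2⟩⟩, inferInstance⟩

theorem exists_of_evenCount (d : ℕ) (h : 0 < evenCount F d) :
    ∃ ψ : IrrCharacter (Matrix.SpecialLinearGroup (Fin 2) F),
      (ψ : Matrix.SpecialLinearGroup (Fin 2) F → ℂ) zNeg =
        (ψ : Matrix.SpecialLinearGroup (Fin 2) F → ℂ) 1 ∧
      (ψ : Matrix.SpecialLinearGroup (Fin 2) F → ℂ) 1 = (d : ℂ) := by
  obtain ⟨⟨ψ, h⟩⟩ := (Nat.card_pos_iff.mp h).1
  exact ⟨ψ, h⟩

open Classical in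
theorem even_sum (hF : ringChar F ≠ 2) (S : Finset ℕ)
    (hS : ∀ ψ : IrrCharacter (Matrix.SpecialLinearGroup (Fin 2) F), ∃ n ∈ S,
      (ψ : Matrix.SpecialLinearGroup (Fin 2) F → ℂ) 1 = (n : ℂ)) :
    Nat.card (Matrix.SpecialLinearGroup (Fin 2) F) = ∑ d ∈ S, evenCount F d * (2 * (d * d)) := by
  have h1 := half_sum (F := F) hF
  have h2 : ∀ ψ : IrrCharacter (Matrix.SpecialLinearGroup (Fin 2) F),
      (if (ψ : Matrix.SpecialLinearGroup (Fin 2) F → ℂ) zNeg =
          (ψ : Matrix.SpecialLinearGroup (Fin 2) F → ℂ) 1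
        then 2 * ((ψ : Matrix.SpecialLinearGroup (Fin 2) F → ℂ) 1 *
          (ψ : Matrix.SpecialLinearGroup (Fin 2) F → ℂ) 1) else 0) =
      ∑ d ∈ S, (if ((ψ : Matrix.SpecialLinearGroup (Fin 2) F → ℂ) zNeg =
          (ψ : Matrix.SpecialLinearGroup (Fin 2) F → ℂ) 1 ∧
          (ψ : Matrix.SpecialLinearGroup (Fin 2) F → ℂ) 1 = (d : ℂ))
        then (2 * ((d : ℂ) * (d : ℂ))) else 0) := by
    intro ψ
    obtain ⟨n, hn, hψn⟩ := hS ψ
    by_cases hE : (ψ : Matrix.SpecialLinearGroup (Fin 2) F → ℂ) zNeg =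
        (ψ : Matrix.SpecialLinearGroup (Fin 2) F → ℂ) 1
    · rw [if_pos hE]
      have h3 : ∀ d ∈ S, (if ((ψ : Matrix.SpecialLinearGroup (Fin 2) F → ℂ) zNeg =
          (ψ : Matrix.SpecialLinearGroup (Fin 2) F → ℂ) 1 ∧
          (ψ : Matrix.SpecialLinearGroup (Fin 2) F → ℂ) 1 = (d : ℂ))
          then (2 * ((d : ℂ) * (d : ℂ))) else 0) =
          if n = d then (2 * ((d : ℂ) * (d : ℂ))) else 0 := by
        intro d _
        by_cases hnd : n = d
        · rw [if_pos hnd, if_pos ⟨hE, by rw [hψn, hnd]⟩]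
        · rw [if_neg hnd, if_neg (fun h => hnd (by
            have h4 := h.2
            rw [hψn] at h4
            exact_mod_cast h4))]
      rw [Finset.sum_congr rfl h3, Finset.sum_ite_eq, if_pos hn, hψn]
    · rw [if_neg hE]
      symm
      apply Finset.sum_eq_zero
      intro d _
      rw [if_neg (fun h => hE h.1)]
  rw [Finset.sum_congr rfl (fun ψ _ => h2 ψ), Finset.sum_comm] at h1
  have h5 : ∀ d ∈ S, ∑ ψ : IrrCharacter (Matrix.SpecialLinearGroup (Fin 2) F),
      (if ((ψ : Matrix.SpecialLinearGroup (Fin 2) F → ℂ) zNeg =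
          (ψ : Matrix.SpecialLinearGroup (Fin 2) F → ℂ) 1 ∧
          (ψ : Matrix.SpecialLinearGroup (Fin 2) F → ℂ) 1 = (d : ℂ))
        then (2 * ((d : ℂ) * (d : ℂ))) else 0) =
      (evenCount F d : ℂ) * (2 * ((d : ℂ) * (d : ℂ))) := by
    intro d _
    rw [Helper2.sum_ite_const_eq_card]
    rfl
  rw [Finset.sum_congr rfl h5] at h1
  have h6 : ((Nat.card (Matrix.SpecialLinearGroup (Fin 2) F) : ℕ) : ℂ) =
      ((∑ d ∈ S, evenCount F d * (2 * (d * d)) : ℕ) : ℂ) := by
    rw [← h1]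
    push_cast
    rfl
  exact_mod_cast h6

theorem psl_arith (k x y u v : ℕ) (hk : 3 ≤ k) (hu : u ≤ 2) (hv : v ≤ 2)
    (h : (2 * k + 1) * (2 * k) * (2 * k + 2) = 2 + 2 * (2 * k + 1) ^ 2 + 2 * x * (2 * k + 2) ^ 2 +
      2 * y * (2 * k) ^ 2 + 2 * u * (k + 1) ^ 2 + 2 * v * k ^ 2) :
    0 < x ∧ 0 < y := by
  have hz : (((2 * k + 1) * (2 * k) * (2 * k + 2) : ℕ) : ℤ) =
      ((2 + 2 * (2 * k + 1) ^ 2 + 2 * x * (2 * k + 2) ^ 2 +
      2 * y * (2 * k) ^ 2 + 2 * u * (k + 1) ^ 2 + 2 * v * k ^ 2 : ℕ) : ℤ) := by rw [h]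
  push_cast at hz
  constructor
  · by_contra hx0
    have hx0' : x = 0 := by omega
    subst hx0'
    have h2 : (2 : ℤ) * ((2 : ℤ) + u) = 2 * ((k : ℤ) * ((2 * k + 1) * (2 * k + 2) - (4 * k + 4) -
        4 * k * y - (k + 2) * u - k * v)) := by
      push_cast at hz
      linear_combination -hz
    have h3 := mul_left_cancel₀ (by norm_num : (2 : ℤ) ≠ 0) h2
    have hdvd : (k : ℤ) ∣ ((2 + u : ℕ) : ℤ) := ⟨_, by push_cast; exact h3⟩
    have hdvd' : k ∣ 2 + u := Int.natCast_dvd_natCast.mp hdvd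
    have hk4 : k ≤ 4 := by
      have := Nat.le_of_dvd (by omega) hdvd'
      omega
    clear hz h2 h3 hdvd
    interval_cases k <;> omega
  · by_contra hy0
    have hy0' : y = 0 := by omega
    subst hy0'
    have h2 : (2 : ℤ) * ((2 : ℤ) + v) = 2 * (((k : ℤ) + 1) * (2 * k * (2 * k + 1) - 4 * k -
        4 * (k + 1) * x - (k + 1) * u - (k - 1) * v)) := by
      push_cast at hz
      linear_combination -hz
    have h3 := mul_left_cancel₀ (by norm_num : (2 : ℤ) ≠ 0) h2
    have hdvd : ((k + 1 : ℕ) : ℤ) ∣ ((2 + v : ℕ) : ℤ) := ⟨_, by push_cast; exact h3⟩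
    have hdvd' : k + 1 ∣ 2 + v := Int.natCast_dvd_natCast.mp hdvd
    have hk4 : k ≤ 3 := by
      have := Nat.le_of_dvd (by omega) hdvd'
      omega
    clear hz h2 h3 hdvd
    interval_cases k <;> omega

/-- for `q ≥ 7` odd, `SL₂(q)` has irreducible characters of degrees `q + 1` and `q - 1` that are
trivial at `-1` -/
theorem psl_exists (hodd : Odd (Fintype.card F)) (h7 : 7 ≤ Fintype.card F) :
    (∃ ψ : IrrCharacter (Matrix.SpecialLinearGroup (Fin 2) F),
      (ψ : Matrix.SpecialLinearGroup (Fin 2) F → ℂ) zNeg =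
        (ψ : Matrix.SpecialLinearGroup (Fin 2) F → ℂ) 1 ∧
      (ψ : Matrix.SpecialLinearGroup (Fin 2) F → ℂ) 1 = (Fintype.card F : ℂ) + 1) ∧
    (∃ ψ : IrrCharacter (Matrix.SpecialLinearGroup (Fin 2) F),
      (ψ : Matrix.SpecialLinearGroup (Fin 2) F → ℂ) zNeg =
        (ψ : Matrix.SpecialLinearGroup (Fin 2) F → ℂ) 1 ∧
      (ψ : Matrix.SpecialLinearGroup (Fin 2) F → ℂ) 1 = (Fintype.card F : ℂ) - 1) := by
  classical
  have hF : ringChar F ≠ 2 := by
    intro h
    have := FiniteField.even_card_of_char_two h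
    rcases hodd with ⟨k, hk⟩
    omega
  obtain ⟨k, hk⟩ := id hodd
  have hk3 : 3 ≤ k := by omega
  have hqc : (Fintype.card F : ℂ) = ((2 * k + 1 : ℕ) : ℂ) := by rw [hk]
  obtain ⟨hdeg, hcnt⟩ := Cfsg.Agent.S2299.result hodd
  obtain ⟨N1, Nq, Nq1, Nqm, Nh1, Nh2⟩ := hcnt (by omega)
  have e1 : (Fintype.card F + 1) / 2 = k + 1 := by omega
  have e2 : (Fintype.card F - 1) / 2 = k := by omega
  have e3 : (Fintype.card F - 3) / 2 = k - 1 := by omega
  have hS : ∀ ψ : IrrCharacter (Matrix.SpecialLinearGroup (Fin 2) F),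
      ∃ n ∈ ({1, 2 * k + 1, 2 * k + 2, 2 * k, k + 1, k} : Finset ℕ),
      (ψ : Matrix.SpecialLinearGroup (Fin 2) F → ℂ) 1 = (n : ℂ) := by
    intro ψ
    rcases hdeg (ψ : Matrix.SpecialLinearGroup (Fin 2) F → ℂ) ψ.2 with h | h | h | h | h | h
    · exact ⟨1, by simp, by rw [h]; norm_num⟩
    · exact ⟨2 * k + 1, by simp, by rw [h, hqc]⟩
    · exact ⟨2 * k + 2, by simp, by rw [h, hqc]; push_cast; ring⟩
    · exact ⟨2 * k, by simp, by rw [h, hqc]; push_cast; ring⟩
    · exact ⟨k + 1, by simp, by rw [h, e1]⟩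
    · exact ⟨k, by simp, by rw [h, e2]⟩
  have hsum := even_sum hF _ hS
  rw [Finset.sum_insert (by simp <;> omega), Finset.sum_insert (by simp <;> omega),
    Finset.sum_insert (by simp <;> omega), Finset.sum_insert (by simp <;> omega),
    Finset.sum_insert (by simp <;> omega), Finset.sum_singleton] at hsum
  have hcard : Nat.card (Matrix.SpecialLinearGroup (Fin 2) F) =
      (2 * k + 1) * (2 * k) * (2 * k + 2) := by
    have hc := Cfsg.Agent.S0242.result (F := F) rfl 2 (by norm_num)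
    rw [Fin.prod_univ_two, hk] at hc
    simp only [Fin.val_zero, Fin.val_one, pow_zero, pow_one] at hc
    have a1 : 2 * k + 1 - 1 = 2 * k := by omega
    have a2 : (2 * k + 1) ^ 2 - 1 = 2 * k * (2 * k + 2) := by
      have : (2 * k + 1) ^ 2 = 2 * k * (2 * k + 2) + 1 := by ring
      omega
    have a3 : (2 * k + 1) ^ 2 - (2 * k + 1) = (2 * k + 1) * (2 * k) := by
      have : (2 * k + 1) ^ 2 = (2 * k + 1) * (2 * k) + (2 * k + 1) := by ring
      omega
    rw [a1, a2, a3] at hc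
    apply Nat.eq_of_mul_eq_mul_left (show 0 < 2 * k by omega)
    rw [hc]
    ring
  rw [hcard] at hsum
  have b1 : evenCount F 1 ≤ 1 := by
    have := evenCount_le (F := F) 1 1 (by norm_num)
    rw [N1] at this
    exact this
  have c1 : 0 < evenCount F 1 :=
    evenCount_pos 1 (Helper25.trivChar _) rfl (by simp)
  have bq : evenCount F (2 * k + 1) ≤ 1 := by
    have := evenCount_le (F := F) (2 * k + 1) (Fintype.card F : ℂ) hqc
    rw [Nq] at this
    exact this
  have cq : 0 < evenCount F (2 * k + 1) := by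
    have hpos : 0 < Nat.card {χ : Cfsg.IrrCharacter (Matrix.SpecialLinearGroup (Fin 2) F) //
        (χ : Matrix.SpecialLinearGroup (Fin 2) F → ℂ) 1 = (Fintype.card F : ℂ)} := by
      rw [Nq]
      norm_num
    obtain ⟨⟨ψ₀, hψ₀⟩⟩ := (Nat.card_pos_iff.mp hpos).1
    exact evenCount_pos _ ψ₀ (steinberg_center ψ₀ hψ₀ zNeg zNeg_mem_center) (by rw [hψ₀, hqc])
  have bu : evenCount F (k + 1) ≤ 2 := by
    have := evenCount_le (F := F) (k + 1) (((Fintype.card F + 1) / 2 : ℕ) : ℂ) (by rw [e1])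
    rw [Nh1] at this
    exact this
  have bv : evenCount F k ≤ 2 := by
    have := evenCount_le (F := F) k (((Fintype.card F - 1) / 2 : ℕ) : ℂ) (by rw [e2])
    rw [Nh2] at this
    exact this
  have ha1 : evenCount F 1 = 1 := by omega
  have haq : evenCount F (2 * k + 1) = 1 := by omega
  rw [ha1, haq] at hsum
  have key := psl_arith k (evenCount F (2 * k + 2)) (evenCount F (2 * k)) (evenCount F (k + 1))
    (evenCount F k) hk3 bu bv (by rw [hsum]; ring)
  refine ⟨?_, ?_⟩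
  · obtain ⟨ψ, h1, h2⟩ := exists_of_evenCount (2 * k + 2) key.1
    exact ⟨ψ, h1, by rw [h2, hqc]; push_cast; ring⟩
  · obtain ⟨ψ, h1, h2⟩ := exists_of_evenCount (2 * k) key.2
    exact ⟨ψ, h1, by rw [h2, hqc]; push_cast; ring⟩

/-- an irreducible character of `SL₂(F)` trivial at `-1` gives a character degree of
`PSL₂(F)` -/
theorem psl_degree_of_even (ψ : IrrCharacter (Matrix.SpecialLinearGroup (Fin 2) F))
    (h : (ψ : Matrix.SpecialLinearGroup (Fin 2) F → ℂ) zNeg =
      (ψ : Matrix.SpecialLinearGroup (Fin 2) F → ℂ) 1) (d : ℕ)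
    (hd : (ψ : Matrix.SpecialLinearGroup (Fin 2) F → ℂ) 1 = (d : ℂ)) :
    d ∈ charDegrees (Matrix.ProjectiveSpecialLinearGroup (Fin 2) F) := by
  obtain ⟨χ', hχ'⟩ := Helper25.exists_deflate ψ
    (Subgroup.center (Matrix.SpecialLinearGroup (Fin 2) F)) (fun z hz => by
      rw [Helper25.mem_irrKer]
      rcases center_cases z hz with rfl | rfl
      · rfl
      · exact h)
  refine ⟨χ', ?_⟩
  have h1 : (χ' : Matrix.ProjectiveSpecialLinearGroup (Fin 2) F → ℂ) 1 = (d : ℂ) := by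
    have := hχ' 1
    rw [hd] at this
    exact this
  rw [Helper25.irr_one_eq_degree] at h1
  exact_mod_cast h1

end Cfsg.Agent.Helper14.GL2
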